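import Groth.Agent.Lib.ProjRegular
import Groth.Agent.AmpleX.Generated
import Groth.Agent.AmpleX.Proj
import Groth.Agent.KRRLib.PnBC.Twist
import Groth.Agent.InvX.GenLocusPull

/-!
# Regular quasi-coherent modules on projective space over a ring
-/

set_option autoImplicit false
set_option linter.style.haveILetI false
set_option linter.unusedSectionVars false
set_option backward.isDefEq.respectTransparency false
set_option backward.isDefEq.respectTransparency.types false
set_option maxHeartbeats 1000000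

universe u

open CategoryTheory CategoryTheory.Limits AlgebraicGeometry TopologicalSpace Opposite MonoidalCategory
open scoped TensorProduct
open Groth.Agent.KFlatLib Groth.Agent.PnCoh.Finite

noncomputable section

namespace Groth.Agent.KRRLib.CM

open Groth.Agent Groth.Agent.PnCoh

/-- The stalk of a tensor with an invertible module: tensoring with the generator is injective. -/
theorem exists_tmul_germ {X : Scheme.{u}} {M N : X.Modules} {U₀ : X.Opens} {e : Γ(N, U₀)} (he : InvX.IsFrame e)
    {x : X} (hx₀ : x ∈ U₀) :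
    ∃ χ : stalkMod x (CohB1.toPMod M) →ₗ[X.presheaf.stalk x] stalkMod x (CohB1.toPMod (CohB1.tensorMod M N)),
      Function.Injective χ ∧ ∀ (U : X.Opens) (hx : x ∈ U) (a : Γ(M, U)) (e' : Γ(N, U)) (c : X.presheaf.stalk x),
        germP (CohB1.toPMod N) U hx e' = c • germP (CohB1.toPMod N) U₀ hx₀ e →
        germP (CohB1.toPMod (CohB1.tensorMod M N)) U hx (InvX.tmul a e') =
          c • χ (germP (CohB1.toPMod M) U hx a) := by
  let P := CohB1.toPMod M
  let Q := CohB1.toPMod N
  haveI hi := KFlatLib.isIso_stalk_unitShP (x := x) (P ⊗ Q)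
  let u : stalkMod x (P ⊗ Q) →ₗ[X.presheaf.stalk x] stalkMod x (CohB1.toPMod (CohB1.tensorMod M N)) :=
    ((KFlatLib.stalkP x).map (KFlatLib.unitShP (P ⊗ Q))).hom
  have hu : Function.Bijective u := ConcreteCategory.bijective_of_isIso ((KFlatLib.stalkP x).map (KFlatLib.unitShP (P ⊗ Q)))
  let g : stalkMod x Q := germP Q U₀ hx₀ e
  let eb := LinearEquiv.ofBijective (LinearMap.toSpanSingleton (X.presheaf.stalk x) (stalkMod x Q) g)
    (he.germ_bijective hx₀)
  let r : stalkMod x P →ₗ[X.presheaf.stalk x] stalkMod x P ⊗[X.presheaf.stalk x] stalkMod x Q :=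
    ((TensorProduct.rid (X.presheaf.stalk x) (stalkMod x P)).symm.trans
      (TensorProduct.congr (LinearEquiv.refl _ _) eb)).toLinearMap
  have hr : ∀ m, r m = m ⊗ₜ g := fun m => by
    show TensorProduct.congr (LinearEquiv.refl _ _) eb ((TensorProduct.rid _ _).symm m) = _
    rw [TensorProduct.rid_symm_apply, TensorProduct.congr_tmul]
    show m ⊗ₜ ((1 : X.presheaf.stalk x) • g) = _
    rw [one_smul]
  have hrinj : Function.Injective r := ((TensorProduct.rid (X.presheaf.stalk x) (stalkMod x P)).symm.trans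
    (TensorProduct.congr (LinearEquiv.refl _ _) eb)).injective
  refine ⟨u ∘ₗ (tensorStalkEquiv P Q).toLinearMap ∘ₗ r,
    (hu.1.comp (tensorStalkEquiv P Q).injective).comp hrinj, fun U hx a e' c hc => ?_⟩
  have key : u (tensorStalkEquiv P Q (germP P U hx a ⊗ₜ germP Q U hx e')) =
      germP (CohB1.toPMod (CohB1.tensorMod M N)) U hx (InvX.tmul a e') :=
    (congrArg u (ofTensor_germ U hx _ _)).trans (stalkModMap_germ _ U hx _)
  rw [← key]
  show _ = c • u (tensorStalkEquiv P Q (r (germP P U hx a)))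
  rw [hr, show germP Q U hx e' = c • g from hc, TensorProduct.tmul_smul, map_smul, map_smul]

variable {n : ℕ} {A : Type u} [CommRing A]

/-- The coordinates. -/
def coords (n : ℕ) (A : Type u) [CommRing A] : ULift.{u} (Fin (n + 1)) → MvPolynomial (Fin (n + 1)) A :=
  fun j => MvPolynomial.X j.down

theorem coords_mem (j : ULift.{u} (Fin (n + 1))) : coords n A j ∈ CohB1.polyGrading n A 1 :=
  MvPolynomial.isHomogeneous_X A j.down

theorem coords_cover : ⨆ j, D (CohB1.polyGrading n A) (coords n A j) = ⊤ :=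
  PnBC.iSup_basicOpen n A

instance compactSpace_projSpace : CompactSpace (Proj (CohB1.polyGrading n A)) := by
  refine ⟨?_⟩
  have h : (Set.univ : Set (Proj (CohB1.polyGrading n A))) = ⋃ j, (D (CohB1.polyGrading n A) (coords n A j) : Set _) := by
    ext x
    simpa using Opens.mem_iSup.1 ((coords_cover (n := n) (A := A)).ge (trivial : x ∈ (⊤ : (Proj (CohB1.polyGrading n A)).Opens)))
  rw [h]
  exact isCompact_iUnion fun j => (isAffineOpen_D coords_mem j).isCompact

variable {G : (Proj (CohB1.polyGrading n A)).Modules}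

/-- A regular quasi-coherent module is generated by global sections. -/
theorem span_germ_top (hG : Coh.IsQCoh G) (hR : ProjRegular.Reg0 (𝒜 := CohB1.polyGrading n A) G)
    (x : Proj (CohB1.polyGrading n A)) :
    Submodule.span ((Proj (CohB1.polyGrading n A)).presheaf.stalk x)
      (Set.range fun t : Γ(G, ⊤) => (germP (CohB1.toPMod G) ⊤ (trivial : x ∈ (⊤ : (Proj (CohB1.polyGrading n A)).Opens)) t :
        stalkMod x (CohB1.toPMod G))) = ⊤ := by
  let 𝒜 := CohB1.polyGrading n A
  obtain ⟨j, hj⟩ := Opens.mem_iSup.1 ((coords_cover (n := n) (A := A)).ge (trivial : x ∈ (⊤ : (Proj (CohB1.polyGrading n A)).Opens)))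
  let L := Twist.twist 𝒜 1
  have hL : PicF.IsInvertible L := isInvertible_twist (coords n A) coords_mem coords_cover 1
  let s : Coh.structureModule (Proj 𝒜) ⟶ L := InvX.ofSect (ProjUPX.sec 𝒜 (coords_mem j))
  let V := CohB1.genLocus L s
  have hV : V = D 𝒜 (coords n A j) :=
    AmpleX.genLocus_sec 𝒜 (coords n A) coords_mem coords_cover (coords_mem j)
  have hVa : IsAffineOpen V := hV.symm ▸ isAffineOpen_D coords_mem j
  have hxV : x ∈ V := hV.symm ▸ hj
  refine eq_top_iff.2 fun m _ => ?_
  -- sections over the chart generate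
  letI := QCoh.stalkAlg (X := Proj 𝒜) hxV
  letI := QCoh.stalkModule G hxV
  haveI := QCoh.isScalarTower_stalk G hxV
  haveI := QCoh.isLocalization_stalk' hVa hxV
  haveI := QCoh.isLocalizedModule_germLin hG hVa hxV
  have hspan : Submodule.span ((Proj 𝒜).presheaf.stalk x) (Set.range (QCoh.germLin G hxV)) = ⊤ := by
    have h1 : Submodule.localized' ((Proj 𝒜).presheaf.stalk x) (hVa.primeIdealOf ⟨x, hxV⟩).asIdeal.primeCompl
        (QCoh.germLin G hxV) (Submodule.span Γ(Proj 𝒜, V) (Set.univ : Set Γ(G, V))) = ⊤ := by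
      rw [Submodule.span_univ, Submodule.localized'_top]
    rwa [Submodule.localized'_span, Set.image_univ] at h1
  have hm : m ∈ Submodule.span ((Proj 𝒜).presheaf.stalk x) (Set.range (QCoh.germLin G hxV)) :=
    hspan.symm ▸ trivial
  refine Submodule.span_le.2 ?_ hm
  rintro _ ⟨a, rfl⟩
  obtain ⟨e, hext⟩ := AmpleX.exists_extend hG hL s a
  obtain ⟨T, hT⟩ := hext e le_rfl
  obtain ⟨ε⟩ := twist_tensorPow_iso (coords n A) coords_mem coords_cover e
  let fr : Γ(CohB1.tensorPow L e, V) :=
    AmpleX.powElt (AModX.res L (le_top : V ≤ ⊤) (InvX.one s)) e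
  have hfr : InvX.IsFrame fr := AmpleX.isFrame_powElt (AmpleX.res_genLocus_frame s) e
  let f' : Γ(Twist.twist 𝒜 (e : ℤ), V) := ε.inv.app V fr
  have hf' : InvX.IsFrame f' := hfr.map_iso ε.symm
  obtain ⟨χ, hχ, hχe⟩ := exists_tmul_germ (M := G) hf' hxV
  -- the transported extension
  let T' : Γ(ProjRegular.tw (𝒜 := 𝒜) G (e : ℤ), ⊤) := ((DCoh.tensorBi.obj G).map ε.inv).app ⊤ T
  have hT' : AModX.res _ (le_top : V ≤ ⊤) T' = InvX.tmul a f' := by
    rw [← AModX.app_res]
    refine (congrArg (((DCoh.tensorBi.obj G).map ε.inv).app V) hT).trans ?_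
    exact (congrArg (fun ψ : DCoh.toP.obj G ⊗ DCoh.toP.obj (CohB1.tensorPow L e) ⟶
        DCoh.toP.obj ((DCoh.tensorBi.obj G).obj (Twist.twist 𝒜 (e : ℤ))) => ψ.app (op V) (tm a fr))
      (unitShP_naturality (DCoh.toP.obj G ◁ DCoh.toP.map ε.inv))).symm
  have hTmem : ∀ z : Γ(ProjRegular.tw (𝒜 := 𝒜) G (e : ℤ), ⊤),
      z ∈ ProjRegular.tensors (𝒜 := 𝒜) G (e : ℤ) →
        germP (CohB1.toPMod _) ⊤ (trivial : x ∈ (⊤ : (Proj (CohB1.polyGrading n A)).Opens)) z ∈
          Submodule.map χ (Submodule.span _ (Set.range fun t : Γ(G, ⊤) =>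
            germP (CohB1.toPMod G) ⊤ (trivial : x ∈ (⊤ : (Proj (CohB1.polyGrading n A)).Opens)) t)) := by
    intro z hz
    induction hz using AddSubgroup.closure_induction with
    | mem y hy =>
      obtain ⟨⟨t, σ⟩, rfl⟩ := hy
      obtain ⟨c, hc⟩ := (hf'.germ_bijective hxV).2 (germP (CohB1.toPMod _) ⊤ (trivial : x ∈ (⊤ : (Proj (CohB1.polyGrading n A)).Opens)) σ)
      exact (hχe ⊤ trivial t σ c hc.symm).symm ▸
        Submodule.smul_mem _ c (Submodule.mem_map_of_mem (Submodule.subset_span ⟨t, rfl⟩))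
    | zero => rw [map_zero]; exact zero_mem _
    | add u v _ _ hu hv => rw [map_add]; exact add_mem hu hv
    | neg u _ hu => rw [map_neg]; exact neg_mem hu
  have h1 := hTmem T' (by
    rw [ProjRegular.tensors_eq_top coords_mem coords_cover hR e e rfl]; trivial)
  have h2 : germP (CohB1.toPMod _) ⊤ (trivial : x ∈ (⊤ : (Proj (CohB1.polyGrading n A)).Opens)) T' = χ (germP (CohB1.toPMod G) V hxV a) := by
    have h3 := hχe V hxV a f' 1 (one_smul _ _).symm
    rw [one_smul, ← hT'] at h3
    exact (InvX.germ_res' (le_top : V ≤ ⊤) hxV T').symm.trans h3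
  rw [h2] at h1
  obtain ⟨y, hy, hyx⟩ := h1
  exact (hχ hyx) ▸ hy

end Groth.Agent.KRRLib.CM
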