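import Groth.Agent.KRRLib.CM.SplitExact
import Groth.Agent.QCoh.FlatFibre
import Groth.Agent.QCoh.Pullback
import Groth.Agent.QCoh.OpenSub

/-!
# Vanishing in all degrees `≥ q` survives base change
-/

set_option autoImplicit false
set_option linter.style.haveILetI false
set_option backward.isDefEq.respectTransparency false
set_option backward.isDefEq.respectTransparency.types false

universe u

open CategoryTheory CategoryTheory.Limits AlgebraicGeometry TopologicalSpace Opposite

noncomputable section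

namespace Groth.Agent.KRRLib.CM

open Groth.Agent

theorem subsingleton_iff_exactAt {R : Type u} [CommRing R] (K : ChainComplex (ModuleCat.{u} R) ℤ) (i : ℤ) :
    Subsingleton (K.homology i) ↔ K.ExactAt i := by
  rw [K.exactAt_iff_isZero_homology]
  exact (ModuleCat.isZero_iff_subsingleton).symm

/-- Vanishing of `Hʲ` for `j ≥ q` of a flat coherent module survives base change. -/
theorem subsingleton_HH_baseChange {A B : Type u} [CommRing A] [IsNoetherianRing A] [CommRing B] {X X' : Scheme.{u}}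
    (π : X ⟶ Spec (CommRingCat.of A)) [IsProper π] {F : X.Modules} (hF : Coh.IsCoh F)
    (hfl : FlatMod.IsFlatOver π F) (φ : A →+* B) (g : X' ⟶ X) (pB : X' ⟶ Spec (CommRingCat.of B))
    (hsq : IsPullback g pB π (Spec.map (CommRingCat.ofHom φ)))
    (q : ℕ) (h : ∀ j, q ≤ j → Subsingleton (Coh.HH X F j)) :
    Subsingleton (Coh.HH X' ((Scheme.Modules.pullback g).obj F) q) := by
  letI : X.Over (Spec (CommRingCat.of A)) := ⟨π⟩
  haveI : IsProper (X ↘ Spec (CommRingCat.of A)) := inferInstanceAs (IsProper π)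
  obtain ⟨P, hP⟩ := QCoh.exists_isBCModel F hF hfl
  obtain ⟨c, hc⟩ := hP.2.2.1
  let u : CohIII.bcCx (RingHom.id A) P ≅ P :=
    (NatIso.mapHomologicalComplex (ModuleCat.extendScalarsId.{u, u} A) (ComplexShape.down ℤ)).app P ≪≫
      (Functor.mapHomologicalComplexIdIso (ModuleCat.{u} A) (ComplexShape.down ℤ)).app P
  have hex : ∀ i : ℤ, i ≤ -(q : ℤ) → P.ExactAt i := fun i hi => by
    obtain ⟨j, rfl⟩ : ∃ j : ℕ, i = -(j : ℤ) := ⟨(-i).toNat, by omega⟩
    have hid : IsPullback (𝟙 X) (X ↘ Spec (CommRingCat.of A)) (X ↘ Spec (CommRingCat.of A))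
        (Spec.map (CommRingCat.ofHom (RingHom.id A))) := by
      rw [show Spec.map (CommRingCat.ofHom (RingHom.id A)) = 𝟙 _ from Spec.map_id (CommRingCat.of A)]
      exact IsPullback.of_horiz_isIso ⟨by simp⟩
    obtain ⟨e⟩ := hP.2.2.2.2.2 A (RingHom.id A) X (𝟙 X) (X ↘ Spec (CommRingCat.of A)) hid j
    haveI := QCoh.subsingleton_HH_of_iso ((Scheme.Modules.pullbackId X).app F).symm j (h j (by omega))
    exact ((subsingleton_iff_exactAt _ _).1 e.toEquiv.symm.subsingleton).of_iso u
  have hproj : ∀ i, Module.Projective A (P.X i) := fun i => @Module.Projective.of_free _ _ _ _ _ (hP.2.1 i)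
  have h' := exactAt_bcCx P hproj c hc (-(q : ℤ)) hex φ (-(q : ℤ)) le_rfl
  obtain ⟨e⟩ := hP.2.2.2.2.2 B φ X' g pB hsq q
  haveI := (subsingleton_iff_exactAt _ _).2 h'
  exact e.toEquiv.subsingleton

end Groth.Agent.KRRLib.CM
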