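import Groth.Agent.KRRLib.CM.RpushVanish
import Groth.Agent.KRRLib.PnBC.Twist
import Groth.Agent.PnCoh.Chow.Proper
import Groth.Agent.QCoh.Pullback
import Groth.Agent.KFlatLib.Scheme.QCohTensor
import Groth.Agent.Lib.ProjRegular
import Groth.Agent.Lib.CurveTensor

/-!
# Higher direct images along `ℙⁿ_T ⟶ T` and cohomology on `ℙⁿ` over rings
-/

set_option autoImplicit false
set_option linter.style.haveILetI false
set_option backward.isDefEq.respectTransparency false
set_option backward.isDefEq.respectTransparency.types false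

universe u

open CategoryTheory CategoryTheory.Limits AlgebraicGeometry TopologicalSpace Opposite

noncomputable section

namespace Groth.Agent.KRRLib.CM

open Groth.Agent Groth.Agent.H23.PicMul

/-- Cohomology does not see isomorphisms of schemes. -/
theorem subsingleton_HH_push_iff {U U' S : Scheme.{u}} (e : U ≅ U') (g : U' ⟶ S) [IsAffine S] [QuasiCompact g]
    [QuasiSeparated g] {M : U.Modules} (hM : Coh.IsQCoh M) (q : ℕ) :
    Subsingleton (Coh.HH U M q) ↔ Subsingleton (Coh.HH U' ((Scheme.Modules.pushforward e.hom).obj M) q) := by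
  haveI : QuasiCompact (e.hom ≫ g) := inferInstance
  haveI : QuasiSeparated (e.hom ≫ g) := inferInstance
  obtain ⟨a⟩ := QCoh.nonempty_HH_equiv_sections (e.hom ≫ g) hM q
  obtain ⟨b⟩ := QCoh.nonempty_HH_equiv_sections g (QCoh.isQCoh_pushforward e.hom hM) q
  obtain ⟨c⟩ := QCoh.nonempty_RpushAb_affine_push e.hom g hM q
  let c' := ((((sheafToPresheaf _ _).mapIso c).app (op ⊤)).addCommGroupIsoToAddEquiv).toEquiv
  exact ⟨fun h => ((a.toEquiv.trans c'.symm).trans b.toEquiv.symm).symm.subsingleton,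
    fun h => ((a.toEquiv.trans c'.symm).trans b.toEquiv.symm).subsingleton⟩

variable (n : ℕ) (T : Scheme.{u})

instance isProper_pr : IsProper (KRR.pr n T) :=
  MorphismProperty.pullback_snd _ _ (PnCoh.Chow.isProper_toSpec n (ULift.{u} ℤ))

variable {T} {V : T.Opens} (hV : IsAffineOpen V)

theorem jV_w : PnBC.bcHom n (SegreX.z0 Γ(T, V)) ≫ CohB1.ProjSpace.toSpec n (ULift.{u} ℤ) =
    (CohB1.ProjSpace.toSpec n Γ(T, V) ≫ hV.fromSpec) ≫ specULiftZIsTerminal.from T :=
  specULiftZIsTerminal.hom_ext _ _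

/-- The part of `ℙⁿ_T` over an affine open. -/
def jV : CohB1.ProjSpace n Γ(T, V) ⟶ KRR.PY n T :=
  pullback.lift (PnBC.bcHom n (SegreX.z0 Γ(T, V))) (CohB1.ProjSpace.toSpec n Γ(T, V) ≫ hV.fromSpec) (jV_w n hV)

theorem jV_fst : jV n hV ≫ pullback.fst _ _ = PnBC.bcHom n (SegreX.z0 Γ(T, V)) := pullback.lift_fst _ _ _

theorem jV_pr : jV n hV ≫ KRR.pr n T = CohB1.ProjSpace.toSpec n Γ(T, V) ≫ hV.fromSpec := pullback.lift_snd _ _ _

theorem isPullback_jV : IsPullback (jV n hV) (CohB1.ProjSpace.toSpec n Γ(T, V)) (KRR.pr n T) hV.fromSpec := by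
  have h := PnBC.isPullback_affine n Γ(T, V)
  rw [specULiftZIsTerminal.hom_ext (specULiftZIsTerminal.from (Spec (CommRingCat.of Γ(T, V))))
    (hV.fromSpec ≫ specULiftZIsTerminal.from T), ← jV_fst n hV] at h
  exact IsPullback.of_right h (jV_pr n hV) (IsPullback.of_hasPullback _ _)

instance isOpenImmersion_jV : IsOpenImmersion (jV n hV) :=
  MorphismProperty.of_isPullback (isPullback_jV n hV).flip inferInstance

theorem opensRange_jV : (jV n hV).opensRange = KRR.pr n T ⁻¹ᵁ V := by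
  refine Opens.ext ?_
  show Set.range (jV n hV) = (KRR.pr n T) ⁻¹' (V : Set T)
  rw [← (isPullback_jV n hV).isoPullback_hom_fst]
  show Set.range (pullback.fst (KRR.pr n T) hV.fromSpec ∘ (isPullback_jV n hV).isoPullback.hom) = _
  rw [Set.range_comp, Scheme.Hom.surjective (isPullback_jV n hV).isoPullback.hom |>.range_eq, Set.image_univ,
    IsOpenImmersion.range_pullbackFst, hV.opensRange_fromSpec]
  rfl

/-- The comparison with the open subscheme. -/
def eV : CohB1.ProjSpace n Γ(T, V) ≅ (KRR.pr n T ⁻¹ᵁ V : Scheme.{u}) :=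
  IsOpenImmersion.isoOfRangeEq (jV n hV) (KRR.pr n T ⁻¹ᵁ V).ι
    ((congrArg (fun W : (KRR.PY n T).Opens => (W : Set (KRR.PY n T))) (opensRange_jV n hV)).trans
      (by rw [Scheme.Opens.range_ι]))

theorem eV_ι : (eV n hV).hom ≫ (KRR.pr n T ⁻¹ᵁ V).ι = jV n hV := IsOpenImmersion.isoOfRangeEq_hom_fac _ _ _

theorem eV_push {G : (KRR.PY n T).Modules} :
    Nonempty ((Scheme.Modules.pushforward (eV n hV).hom).obj ((Scheme.Modules.pullback (jV n hV)).obj G) ≅
      G.restrict (KRR.pr n T ⁻¹ᵁ V).ι) := by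
  let H := G.restrict (KRR.pr n T ⁻¹ᵁ V).ι
  haveI : IsIso ((Scheme.Modules.restrictAdjunction (eV n hV).hom).unit.app H) :=
    CurveTensor.isIso_unit_of_isIso (eV n hV).hom H
  exact ⟨(Scheme.Modules.pushforward (eV n hV).hom).mapIso
      (((Scheme.Modules.restrictFunctorIsoPullback (jV n hV)).app G).symm ≪≫
        (Scheme.Modules.restrictFunctorCongr (eV_ι n hV).symm).app G ≪≫
        (Scheme.Modules.restrictFunctorComp (eV n hV).hom (KRR.pr n T ⁻¹ᵁ V).ι).app G) ≪≫
    (asIso ((Scheme.Modules.restrictAdjunction (eV n hV).hom).unit.app H)).symm⟩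

/-- The twists of `ℙⁿ_T` over affine opens. -/
theorem nonempty_pullback_twF (d : ℤ) (G : (KRR.PY n T).Modules) :
    Nonempty ((Scheme.Modules.pullback (jV n hV)).obj (KRR.twF n T d G) ≅
      ProjRegular.tw (𝒜 := CohB1.polyGrading n Γ(T, V)) ((Scheme.Modules.pullback (jV n hV)).obj G) d) := by
  obtain ⟨e1⟩ := H23.PicMul.pull (jV n hV) (Twist.twistOver n T d) G
  obtain ⟨e2⟩ := H23.PicMul.comm ((Scheme.Modules.pullback (jV n hV)).obj (Twist.twistOver n T d))
    ((Scheme.Modules.pullback (jV n hV)).obj G)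
  let e3 : (Scheme.Modules.pullback (jV n hV)).obj (Twist.twistOver n T d) ≅
      Twist.twistProjSpace n Γ(T, V) d :=
    (Scheme.Modules.pullbackComp (jV n hV) _).app _ ≪≫
      (Scheme.Modules.pullbackCongr (jV_fst n hV)).app _ ≪≫ PnBC.twistIso (SegreX.z0 Γ(T, V)) d
  exact ⟨e1 ≪≫ e2 ≪≫ (DCoh.tensorBi.obj _).mapIso e3⟩

theorem isQCoh_twistOver (d : ℤ) : Coh.IsQCoh (Twist.twistOver n T d) :=
  QCoh.isQCoh_pullback _ (ProjUPX.isQCoh_of_isInvertible (PnCoh.Finite.isInvertible_twist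
    (fun i : ULift.{u} (Fin (n + 1)) => (MvPolynomial.X i.down : MvPolynomial (Fin (n + 1)) (ULift.{u} ℤ)))
    (fun i => PnBC.X_mem_one n _ i.down) (PnBC.iSup_basicOpen n _) d))

theorem isQCoh_twF (d : ℤ) {G : (KRR.PY n T).Modules} (hG : Coh.IsQCoh G) : Coh.IsQCoh (KRR.twF n T d G) :=
  KFlatLib.isQCoh_tensor (isQCoh_twistOver n d) hG

/-- Higher direct images vanish iff cohomology does over the affine opens. -/
theorem isZero_rpush_iff {F : (KRR.PY n T).Modules} (hF : Coh.IsQCoh F) (q : ℕ) :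
    IsZero ((Coh.RpushAb (KRR.pr n T) (q + 1)).obj (Coh.toAb F)) ↔ ∀ (V : T.Opens) (hV : IsAffineOpen V),
      Subsingleton (Coh.HH (CohB1.ProjSpace n Γ(T, V)) ((Scheme.Modules.pullback (jV n hV)).obj F) (q + 1)) := by
  rw [isZero_RpushAb_iff (KRR.pr n T) hF q]
  refine forall_congr' fun V => forall_congr' fun hV => ?_
  haveI : IsAffine (V : Scheme.{u}) := hV
  obtain ⟨e⟩ := eV_push n hV (G := F)
  rw [subsingleton_HH_push_iff (eV n hV) (KRR.pr n T ∣_ V) (QCoh.isQCoh_pullback (jV n hV) hF) (q + 1)]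
  exact ⟨fun h => QCoh.subsingleton_HH_of_iso e.symm _ h, fun h => QCoh.subsingleton_HH_of_iso e _ h⟩

/-- Regularity is regularity over the affine opens. -/
theorem isRegSheaf_iff {G : (KRR.PY n T).Modules} (hG : Coh.IsQCoh G) :
    KRR.IsRegSheaf n T G ↔ ∀ (V : T.Opens) (hV : IsAffineOpen V),
      ProjRegular.Reg0 (𝒜 := CohB1.polyGrading n Γ(T, V)) ((Scheme.Modules.pullback (jV n hV)).obj G) := by
  constructor
  · intro h V hV q hq
    obtain ⟨p, rfl⟩ := Nat.exists_eq_add_of_le' hq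
    obtain ⟨e⟩ := nonempty_pullback_twF n hV (-((p + 1 : ℕ) : ℤ)) G
    exact QCoh.subsingleton_HH_of_iso e _ ((isZero_rpush_iff n (isQCoh_twF n _ hG) p).1 (h (p + 1) hq) V hV)
  · intro h q hq
    obtain ⟨p, rfl⟩ := Nat.exists_eq_add_of_le' hq
    refine (isZero_rpush_iff n (isQCoh_twF n _ hG) p).2 fun V hV => ?_
    obtain ⟨e⟩ := nonempty_pullback_twF n hV (-((p + 1 : ℕ) : ℤ)) G
    exact QCoh.subsingleton_HH_of_iso e.symm _ (h V hV (p + 1) hq)

end Groth.Agent.KRRLib.CM
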