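import Mathlib.Algebra.Homology.QuasiIso
import Mathlib.Algebra.Homology.ShortComplex.Abelian
import Mathlib.Algebra.Homology.Single
import Mathlib.Algebra.Homology.SingleHomology
import Mathlib.CategoryTheory.Abelian.Basic
import Mathlib.Algebra.Homology.ShortComplex.ShortExact

/-!
# Splicing short exact sequences into a resolution
-/

set_option autoImplicit false
set_option linter.style.haveILetI false
set_option backward.isDefEq.respectTransparency false
set_option backward.isDefEq.respectTransparency.types false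
set_option backward.defeqAttrib.useBackward true

open CategoryTheory CategoryTheory.Limits

noncomputable section

namespace Groth.Agent.KRRLib.CM

variable {C : Type*} [Category C] [Abelian C] (W X : ℕ → C) (a : ∀ i, W (i + 1) ⟶ X i) (b : ∀ i, X i ⟶ W i)

/-- Spliced short exact sequences give a resolution. -/
theorem exists_resolution_of_shortExact (w : ∀ i, a i ≫ b i = 0)
    (h : ∀ i, (ShortComplex.mk (a i) (b i) (w i)).ShortExact) {F : C} (e : W 0 ≅ F) :
    ∃ (L : ChainComplex C ℕ) (π : L ⟶ (ChainComplex.single₀ C).obj F),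
      (∀ i, Nonempty (L.X i ≅ X i)) ∧ QuasiIso π := by
  have hb : ∀ i, Epi (b i) := fun i => (h i).epi_g
  have ha : ∀ i, Mono (a i) := fun i => (h i).mono_f
  let d : ∀ i, X (i + 1) ⟶ X i := fun i => b (i + 1) ≫ a i
  have hd : ∀ i, d (i + 1) ≫ d i = 0 := fun i => by
    simp only [d, Category.assoc]
    rw [← Category.assoc (a (i + 1)), w, zero_comp, comp_zero]
  have hex : ∀ i, (ShortComplex.mk (d (i + 1)) (d i) (hd i)).Exact := fun i => by
    let S := ShortComplex.mk (a (i + 1)) (b (i + 1)) (w (i + 1))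
    let S' := ShortComplex.mk (d (i + 1)) (b (i + 1)) (by simp only [d, Category.assoc, w, comp_zero])
    let φ : S' ⟶ S := { τ₁ := b (i + 2), τ₂ := 𝟙 _, τ₃ := 𝟙 _, comm₁₂ := by simp [S, S', d], comm₂₃ := by simp [S, S'] }
    let ψ : S' ⟶ ShortComplex.mk (d (i + 1)) (d i) (hd i) :=
      { τ₁ := 𝟙 _, τ₂ := 𝟙 _, τ₃ := a i, comm₁₂ := by simp [S'], comm₂₃ := by simp [S', d] }
    haveI : Epi φ.τ₁ := hb (i + 2)
    haveI : IsIso φ.τ₂ := inferInstanceAs (IsIso (𝟙 _))
    haveI : Mono φ.τ₃ := inferInstanceAs (Mono (𝟙 _))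
    haveI : Epi ψ.τ₁ := inferInstanceAs (Epi (𝟙 _))
    haveI : IsIso ψ.τ₂ := inferInstanceAs (IsIso (𝟙 _))
    haveI : Mono ψ.τ₃ := ha i
    exact (ShortComplex.exact_iff_of_epi_of_isIso_of_mono ψ).1
      ((ShortComplex.exact_iff_of_epi_of_isIso_of_mono φ).2 (h (i + 1)).exact)
  have w0 : d 0 ≫ b 0 ≫ e.hom = 0 := by
    simp only [d, Category.assoc]
    rw [← Category.assoc (a 0), w, zero_comp, comp_zero]
  have hex0 : (ShortComplex.mk (d 0) (b 0 ≫ e.hom) w0).Exact := by
    let S := ShortComplex.mk (a 0) (b 0) (w 0)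
    let φ : ShortComplex.mk (d 0) (b 0) (by simp only [d, Category.assoc, w, comp_zero]) ⟶ S :=
      { τ₁ := b 1, τ₂ := 𝟙 _, τ₃ := 𝟙 _, comm₁₂ := by simp [S, d], comm₂₃ := by simp [S] }
    haveI : Epi φ.τ₁ := hb 1
    haveI : IsIso φ.τ₂ := inferInstanceAs (IsIso (𝟙 _))
    haveI : Mono φ.τ₃ := inferInstanceAs (Mono (𝟙 _))
    have h0 := (ShortComplex.exact_iff_of_epi_of_isIso_of_mono φ).2 (h 0).exact
    refine ShortComplex.exact_of_iso ?_ h0
    exact ShortComplex.isoMk (Iso.refl _) (Iso.refl _) e (by simp) (by simp)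
  let L : ChainComplex C ℕ := ChainComplex.of X d hd
  have hL0 : L.d 1 0 ≫ (show L.X 0 ⟶ F from b 0 ≫ e.hom) = 0 := by
    rw [show L.d 1 0 = d 0 from ChainComplex.of_d X d 0]
    exact w0
  refine ⟨L, (ChainComplex.toSingle₀Equiv L F).symm ⟨b 0 ≫ e.hom, hL0⟩, fun i => ⟨Iso.refl _⟩, ⟨fun m => ?_⟩⟩
  cases m with
  | zero =>
    rw [ChainComplex.quasiIsoAt₀_iff, ShortComplex.quasiIso_iff_of_zeros']
    · dsimp
      haveI : Epi (b 0) := hb 0
      refine (ShortComplex.exact_and_epi_g_iff_of_iso ?_).2 ⟨hex0, inferInstanceAs (Epi (b 0 ≫ e.hom))⟩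
      refine ShortComplex.isoMk (Iso.refl _) (Iso.refl _) (Iso.refl _) ?_ ?_
      · simp only [Iso.refl_hom, Category.id_comp, Category.comp_id]
        exact (ChainComplex.of_d X d 0).symm
      · simp
    all_goals rfl
  | succ m =>
    rw [quasiIsoAt_iff_exactAt' (hL := ChainComplex.exactAt_succ_single_obj _ _),
      HomologicalComplex.exactAt_iff' _ (m + 1 + 1) (m + 1) m (by simp) (by simp)]
    refine ShortComplex.exact_of_iso ?_ (hex m)
    refine ShortComplex.isoMk (Iso.refl _) (Iso.refl _) (Iso.refl _) ?_ ?_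
    · simp [L, HomologicalComplex.sc', HomologicalComplex.shortComplexFunctor']
    · simp [L, HomologicalComplex.sc', HomologicalComplex.shortComplexFunctor']

end Groth.Agent.KRRLib.CM
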