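import Groth.Agent.KRRLib.CM.Unit
import Groth.Agent.KRRLib.CM.Splice
import Groth.Agent.Lib.InvEnd
import Groth.Agent.PicClLib.Basic

/-!
# The canonical resolution of a regular module on projective space over a base
-/

set_option autoImplicit false
set_option linter.style.haveILetI false
set_option linter.unusedSectionVars false
set_option backward.isDefEq.respectTransparency false
set_option backward.isDefEq.respectTransparency.types false
set_option maxHeartbeats 1000000

universe u

open CategoryTheory CategoryTheory.Limits AlgebraicGeometry TopologicalSpace Opposite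
open Groth.Agent.PnCoh.Finite

noncomputable section

namespace Groth.Agent.KRRLib.CM

open Groth.Agent Groth.Agent.PnCoh

variable {n : ℕ} {T : Scheme.{u}}

theorem isInvertible_twistOver (d : ℤ) : PicF.IsInvertible (Twist.twistOver n T d) :=
  PicClLib.isInvertible_pullback _ (PnCoh.Finite.isInvertible_twist
    (coords n (ULift.{u} ℤ)) coords_mem coords_cover d)

theorem flf_twistOver (d : ℤ) : FlatMod.IsFinLocFree (Twist.twistOver n T d) :=
  flf_of_rank (InvEnd.isFinLocFreeOfRank_one (isInvertible_twistOver d))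

theorem twistOver_tensor_iso (a b : ℤ) :
    Nonempty (CohB1.tensorMod (Twist.twistOver n T a) (Twist.twistOver n T b) ≅ Twist.twistOver n T (a + b)) := by
  let f := pullback.fst (CohB1.ProjSpace.toSpec n (ULift.{u} ℤ)) (specULiftZIsTerminal.from T)
  obtain ⟨e⟩ := twist_tensor_iso (coords n (ULift.{u} ℤ)) coords_mem coords_cover a b
  obtain ⟨p⟩ := H23.PicMul.pull f (Twist.twistProjSpace n (ULift.{u} ℤ) a) (Twist.twistProjSpace n (ULift.{u} ℤ) b)
  exact ⟨p.symm ≪≫ (Scheme.Modules.pullback f).mapIso e⟩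

/-- The twisting functor. -/
abbrev twFun (n : ℕ) (T : Scheme.{u}) (d : ℤ) : (KRR.PY n T).Modules ⥤ (KRR.PY n T).Modules :=
  DCoh.tensorBi.obj (Twist.twistOver n T d)

theorem twF_twF_iso (a b c : ℤ) (h : c = a + b) (G : (KRR.PY n T).Modules) :
    Nonempty (KRR.twF n T a (KRR.twF n T b G) ≅ KRR.twF n T c G) := by
  subst h
  obtain ⟨e⟩ := twistOver_tensor_iso (n := n) (T := T) a b
  let e' : (DCoh.tensorBi.obj (Twist.twistOver n T a)).obj (Twist.twistOver n T b) ≅ Twist.twistOver n T (a + b) := e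
  exact ⟨((((KFlatLib.tensorAssocSch (KRR.PY n T)).app (Twist.twistOver n T a)).app (Twist.twistOver n T b)).app G).symm
    ≪≫ (DCoh.tensorBi.flip.obj G).mapIso e'⟩

theorem twF_zero_iso (G : (KRR.PY n T).Modules) : Nonempty (KRR.twF n T 0 G ≅ G) := by
  let f := pullback.fst (CohB1.ProjSpace.toSpec n (ULift.{u} ℤ)) (specULiftZIsTerminal.from T)
  let u : Coh.structureModule (Proj (CohB1.polyGrading n (ULift.{u} ℤ))) ≅ Twist.twist (CohB1.polyGrading n (ULift.{u} ℤ)) 0 :=
    @asIso _ _ _ _ _ (isIso_oneHom (coords n (ULift.{u} ℤ)) coords_mem coords_cover)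
  let e : Coh.structureModule (KRR.PY n T) ≅ Twist.twistOver n T 0 :=
    (pullStructureIso f).symm ≪≫ (Scheme.Modules.pullback f).mapIso u
  obtain ⟨c⟩ := H23.PicMul.comm (Coh.structureModule (KRR.PY n T)) G
  let c' : (DCoh.tensorBi.obj (Coh.structureModule (KRR.PY n T))).obj G ≅
      (DCoh.tensorBi.obj G).obj (Coh.structureModule (KRR.PY n T)) := c
  exact ⟨(DCoh.tensorBi.flip.obj G).mapIso e.symm ≪≫ c' ≪≫ KFlatLib.tensorUnitIso G⟩

/-- The syzygy step. -/
def nextG (G : (KRR.PY n T).Modules) : (KRR.PY n T).Modules :=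
  KRR.twF n T 1 (kernel ((Scheme.Modules.pullbackPushforwardAdjunction (KRR.pr n T)).counit.app G))

/-- The sequence of syzygies. -/
def syz (F : (KRR.PY n T).Modules) : ℕ → (KRR.PY n T).Modules
  | 0 => F
  | i + 1 => nextG (syz F i)

variable {F : (KRR.PY n T).Modules} (hF : Coh.IsQCoh F) (hreg : KRR.IsRegSheaf n T F)

theorem isQCoh_kernel_counit {G : (KRR.PY n T).Modules} (hG : Coh.IsQCoh G) :
    Coh.IsQCoh (kernel ((Scheme.Modules.pullbackPushforwardAdjunction (KRR.pr n T)).counit.app G)) :=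
  QCoh.isQCoh_kernel (QCoh.isQCoh_pullback (KRR.pr n T) (QCoh.isQCoh_pushforward (KRR.pr n T) hG)) hG _

include hF hreg in
theorem syz_spec (i : ℕ) : Coh.IsQCoh (syz F i) ∧ KRR.IsRegSheaf n T (syz F i) := by
  induction i with
  | zero => exact ⟨hF, hreg⟩
  | succ i ih => exact ⟨isQCoh_twF n 1 (isQCoh_kernel_counit ih.1), isRegSheaf_twF_kernel_counit ih.1 ih.2⟩

theorem subsingleton_HH_zero {X : Scheme.{u}} (G : X.Modules) :
    Subsingleton (Coh.HH X G 0) ↔ Subsingleton Γ(G, ⊤) :=
  let e := (Sheaf.H.equiv₀ (Coh.toAb G) isTerminalTop).toEquiv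
  ⟨fun h => @Equiv.subsingleton _ _ e.symm h, fun h => @Equiv.subsingleton _ _ e h⟩

/-- Vanishing over an affine open. -/
def SyzVanish (G : (KRR.PY n T).Modules) (m : ℕ) : Prop :=
  ∀ (V : T.Opens) (hV : IsAffineOpen V) (q : ℕ), q < m →
    Subsingleton (Coh.HH (Proj (CohB1.polyGrading n Γ(T, V)))
      (ProjRegular.tw (𝒜 := CohB1.polyGrading n Γ(T, V)) ((Scheme.Modules.pullback (jV n hV)).obj G) (-1 - (q : ℤ))) q)

theorem syzVanish_next {G : (KRR.PY n T).Modules} (hG : Coh.IsQCoh G) (hR : KRR.IsRegSheaf n T G) {m : ℕ}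
    (h : SyzVanish G m) : SyzVanish (nextG G) (m + 1) := by
  intro V hV q hq
  let ε := (Scheme.Modules.pullbackPushforwardAdjunction (KRR.pr n T)).counit.app G
  obtain ⟨e⟩ := nonempty_pullback_twF n hV 1 (kernel ε)
  obtain ⟨e'⟩ := tw_tw_iso ((Scheme.Modules.pullback (jV n hV)).obj (kernel ε)) 1 (-1 - (q : ℤ)) (-(q : ℤ)) (by omega)
  have goal' : Subsingleton (Coh.HH (Proj (CohB1.polyGrading n Γ(T, V)))
      (ProjRegular.tw (𝒜 := CohB1.polyGrading n Γ(T, V)) ((Scheme.Modules.pullback (jV n hV)).obj (kernel ε)) (-(q : ℤ))) q) := by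
    cases q with
    | zero =>
      obtain ⟨z⟩ := tw_zero_iso ((Scheme.Modules.pullback (jV n hV)).obj (kernel ε))
      exact QCoh.subsingleton_HH_of_iso z.symm 0
        ((subsingleton_HH_zero _).2 (subsingleton_HH_zero_kernel_counit hG hV))
    | succ p =>
      haveI : Epi ε := epi_counit hG hR
      have hS : (ShortComplex.mk (kernel.ι ε) ε (kernel.condition ε)).ShortExact :=
        { exact := ShortComplex.exact_kernel ε }
      have hT := shortExact_tw (-((p + 1 : ℕ) : ℤ)) (shortExact_pullback_jV (n := n) hV hS)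
      have hN := QCoh.isQCoh_pushforward (KRR.pr n T) hG
      obtain ⟨eN⟩ := nonempty_pullback_jV_pr (n := n) hV ((Scheme.Modules.pushforward (KRR.pr n T)).obj G)
      have hM := QCoh.isQCoh_pullback hV.fromSpec hN
      have h₂ : Subsingleton (Coh.HH (Proj (CohB1.polyGrading n Γ(T, V)))
          (ProjRegular.tw (𝒜 := CohB1.polyGrading n Γ(T, V)) ((Scheme.Modules.pullback (jV n hV)).obj
            ((Scheme.Modules.pullback (KRR.pr n T)).obj ((Scheme.Modules.pushforward (KRR.pr n T)).obj G)))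
            (-((p + 1 : ℕ) : ℤ))) (p + 1)) := by
        have h0 : Subsingleton (Coh.HH (Proj (CohB1.polyGrading n Γ(T, V)))
            (ProjRegular.tw (𝒜 := CohB1.polyGrading n Γ(T, V))
              ((Scheme.Modules.pullback (toP n Γ(T, V))).obj
                ((Scheme.Modules.pullback hV.fromSpec).obj ((Scheme.Modules.pushforward (KRR.pr n T)).obj G)))
              (-((p + 1 : ℕ) : ℤ))) (p + 1)) := by
          by_cases hpn : p + 1 ≤ n
          · exact subsingleton_HH_tw_pullback n _ _ (by omega) _ (by omega) hM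
          · exact subsingleton_HH_high n _ (isQCoh_tw n _ (QCoh.isQCoh_pullback (toP n Γ(T, V)) hM) _) _ (by omega)
        exact QCoh.subsingleton_HH_of_iso ((DCoh.tensorBi.flip.obj _).mapIso eN.symm) _ h0
      have h₃ := h V hV p (by omega)
      rw [show (-1 : ℤ) - (p : ℤ) = -((p + 1 : ℕ) : ℤ) by push_cast; ring] at h₃
      have h₁ := CurveVanish.subsingleton_HH_X₁ hT p h₂ h₃
      exact h₁
  have h5 := QCoh.subsingleton_HH_of_iso e'.symm q goal'
  have h6 := QCoh.subsingleton_HH_of_iso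
    ((DCoh.tensorBi.flip.obj (Twist.twist (CohB1.polyGrading n Γ(T, V)) (-1 - (q : ℤ)))).mapIso e.symm) q h5
  exact h6

include hF hreg in
theorem syzVanish_syz : ∀ m, SyzVanish (syz F m) m
  | 0 => fun _ _ q hq => absurd hq (Nat.not_lt_zero q)
  | m + 1 => syzVanish_next (syz_spec hF hreg m).1 (syz_spec hF hreg m).2 (syzVanish_syz m)

theorem isZero_of_epi_zero {C : Type*} [Category C] [HasZeroMorphisms C] [HasZeroObject C] {G H : C}
    (h : Epi (0 : H ⟶ G)) : IsZero G := by
  haveI := h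
  exact (IsZero.iff_id_eq_zero G).2 ((cancel_epi (0 : H ⟶ G)).1 (by rw [zero_comp, zero_comp]))

theorem isZero_of_syzVanish {G : (KRR.PY n T).Modules} (hG : Coh.IsQCoh G) (h : SyzVanish G (n + 1)) :
    IsZero G := by
  refine isZero_of_epi_zero (H := G) (epi_of_pullback_jV 0 fun V hV => ?_)
  let G' := (Scheme.Modules.pullback (jV n hV)).obj G
  have hG' : Coh.IsQCoh G' := isQCoh_pullback_jV hV hG
  let G'' := ProjRegular.tw (𝒜 := CohB1.polyGrading n Γ(T, V)) G' (-1)
  have hG'' : Coh.IsQCoh G'' := isQCoh_tw n _ hG' (-1)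
  have hR : ProjRegular.Reg0 (𝒜 := CohB1.polyGrading n Γ(T, V)) G'' := by
    refine (reg0_tw_iff G' (-1)).2 fun q hq => ?_
    by_cases hqn : q ≤ n
    · exact h V hV q (by omega)
    · exact subsingleton_HH_high n _ (isQCoh_tw n _ hG' _) q (by omega)
  have h0 := h V hV 0 (Nat.succ_pos n)
  rw [show (-1 : ℤ) - ((0 : ℕ) : ℤ) = -1 by norm_num] at h0
  haveI : Subsingleton Γ(G'', ⊤) := (subsingleton_HH_zero G'').1 h0
  have hz : IsZero G'' := isZero_of_epi_zero (H := G'')
    (epi_of_app_top_surjective hG'' hR 0 fun t => ⟨0, Subsingleton.elim _ _⟩)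
  obtain ⟨e⟩ := tw_tw_iso G' (-1) 1 0 (by norm_num)
  obtain ⟨z⟩ := tw_zero_iso G'
  haveI : (DCoh.tensorBi.flip.obj (Twist.twist (CohB1.polyGrading n Γ(T, V)) 1)).Additive := inferInstance
  have hG0 : IsZero G' := ((Functor.map_isZero
    (DCoh.tensorBi.flip.obj (Twist.twist (CohB1.polyGrading n Γ(T, V)) 1)) hz).of_iso e.symm).of_iso z.symm
  exact ⟨fun _ _ _ => hG0.eq_of_src _ _⟩

include hF hreg in
theorem isZero_syz (i : ℕ) (hi : n < i) : IsZero (syz F i) := by
  induction i with
  | zero => omega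
  | succ i ih =>
    rcases Nat.lt_or_ge n i with h | h
    · have hz : IsZero ((Scheme.Modules.pullback (KRR.pr n T)).obj ((Scheme.Modules.pushforward (KRR.pr n T)).obj (syz F i))) := by
        haveI : (Scheme.Modules.pullback (KRR.pr n T)).Additive :=
          (Scheme.Modules.pullbackPushforwardAdjunction (KRR.pr n T)).left_adjoint_additive
        exact Functor.map_isZero _ (Functor.map_isZero _ (ih h))
      exact Functor.map_isZero (twFun n T 1) (hz.of_mono (kernel.ι _))
    · obtain rfl : i = n := by omega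
      exact isZero_of_syzVanish (syz_spec hF hreg (i + 1)).1 (syzVanish_syz hF hreg (i + 1))

include hF hreg in
/-- The canonical resolution of a regular module. -/
theorem exists_regular_resolution :
    ∃ (Tm : ℕ → T.Modules) (L : ChainComplex (KRR.PY n T).Modules ℕ)
      (π : L ⟶ (ChainComplex.single₀ (KRR.PY n T).Modules).obj F),
      (∀ i, Coh.IsQCoh (Tm i)) ∧
      (∀ i, i ≤ n → Nonempty (L.X i ≅
        KRR.twF n T (-(i : ℤ)) ((Scheme.Modules.pullback (KRR.pr n T)).obj (Tm i)))) ∧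
      (∀ i, n < i → IsZero (L.X i)) ∧ QuasiIso π := by
  let adj := Scheme.Modules.pullbackPushforwardAdjunction (KRR.pr n T)
  let N : ℕ → T.Modules := fun i => (Scheme.Modules.pushforward (KRR.pr n T)).obj (syz F i)
  let W : ℕ → (KRR.PY n T).Modules := fun i => KRR.twF n T (-(i : ℤ)) (syz F i)
  let X : ℕ → (KRR.PY n T).Modules := fun i =>
    KRR.twF n T (-(i : ℤ)) ((Scheme.Modules.pullback (KRR.pr n T)).obj (N i))
  have hiso : ∀ i : ℕ, Nonempty (W (i + 1) ≅
      KRR.twF n T (-(i : ℤ)) (kernel (adj.counit.app (syz F i)))) := fun i =>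
    twF_twF_iso (-((i + 1 : ℕ) : ℤ)) 1 (-(i : ℤ)) (by push_cast; ring) _
  let e : ∀ i : ℕ, W (i + 1) ≅ KRR.twF n T (-(i : ℤ)) (kernel (adj.counit.app (syz F i))) := fun i => (hiso i).some
  let a : ∀ i : ℕ, W (i + 1) ⟶ X i := fun i => (e i).hom ≫ (twFun n T (-(i : ℤ))).map (kernel.ι (adj.counit.app (syz F i)))
  let b : ∀ i : ℕ, X i ⟶ W i := fun i => (twFun n T (-(i : ℤ))).map (adj.counit.app (syz F i))
  have w : ∀ i, a i ≫ b i = 0 := fun i => by
    simp only [a, b, Category.assoc]
    rw [← Functor.map_comp, kernel.condition, Functor.map_zero, comp_zero]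
  have hse : ∀ i, (ShortComplex.mk (a i) (b i) (w i)).ShortExact := fun i => by
    haveI : Epi (adj.counit.app (syz F i)) := epi_counit (syz_spec hF hreg i).1 (syz_spec hF hreg i).2
    have hS : (ShortComplex.mk (kernel.ι (adj.counit.app (syz F i))) (adj.counit.app (syz F i))
        (kernel.condition _)).ShortExact := { exact := ShortComplex.exact_kernel _ }
    refine ShortComplex.shortExact_of_iso ?_
      (CurveTensor.shortExact_tensor (flf_twistOver (n := n) (T := T) (-(i : ℤ))) _ _ _ hS)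
    exact ShortComplex.isoMk (e i).symm (Iso.refl _) (Iso.refl _) (by simp [a, twFun]) (by simp [b, twFun])
  obtain ⟨z⟩ := twF_zero_iso F
  have e0 : W 0 ≅ F := eqToIso (by simp only [W, Nat.cast_zero, neg_zero]; rfl) ≪≫ z
  obtain ⟨L, π, hL, hπ⟩ := exists_resolution_of_shortExact W X a b w hse e0
  refine ⟨N, L, π, fun i => QCoh.isQCoh_pushforward (KRR.pr n T) (syz_spec hF hreg i).1,
    fun i _ => hL i, fun i hi => ?_, hπ⟩
  haveI : (Scheme.Modules.pullback (KRR.pr n T)).Additive :=
    (Scheme.Modules.pullbackPushforwardAdjunction (KRR.pr n T)).left_adjoint_additive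
  exact (Functor.map_isZero (twFun n T (-(i : ℤ))) (Functor.map_isZero _ (Functor.map_isZero
    (Scheme.Modules.pushforward (KRR.pr n T)) (isZero_syz hF hreg i hi)))).of_iso (hL i).some

end Groth.Agent.KRRLib.CM
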