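import Groth.Agent.S5626
import Groth.Agent.KRRLib.CM.Resolution
import Groth.Agent.AmpleX.Proj
import Groth.Agent.InvX.GenLocus
import Groth.Agent.ConsPropLib.FibreLocFree

/-!
# The Euler sequence `0 ⟶ O ⟶ O(1)^{n+1} ⟶ Q ⟶ 0` on projective space
-/

set_option autoImplicit false
set_option linter.style.haveILetI false
set_option linter.unusedSectionVars false
set_option backward.isDefEq.respectTransparency false
set_option backward.isDefEq.respectTransparency.types false
set_option maxHeartbeats 1000000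

universe u

open CategoryTheory CategoryTheory.Limits AlgebraicGeometry TopologicalSpace Opposite
open Groth.Agent.PnCoh.Finite

noncomputable section

namespace Groth.Agent.KRRLib.CM

open Groth.Agent Groth.Agent.PnCoh

theorem flf_finite_biproduct {X : Scheme.{u}} {J : Type} [Fintype J] (M : J → X.Modules)
    [HasBiproduct M] (h : ∀ j, FlatMod.IsFinLocFree (M j)) : FlatMod.IsFinLocFree (⨁ M) :=
  flf_iso (biproduct.isoCoproduct M).symm
    (KFlatLib.isFinLocFree_sigma M Finset.univ (fun i hi => absurd (Finset.mem_univ i) hi) h)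

section LocalRetraction

variable {X : Scheme.{u}} {A E : X.Modules}

/-- The map has retractions locally. -/
def LocRetract (σ : A ⟶ E) : Prop :=
  ∀ x : X, ∃ U : X.Opens, x ∈ U ∧
    ∃ r : (Scheme.Modules.restrictFunctor U.ι).obj E ⟶ (Scheme.Modules.restrictFunctor U.ι).obj A,
      (Scheme.Modules.restrictFunctor U.ι).map σ ≫ r = 𝟙 _

theorem map_ι_eq_zero {C D : Type*} [Category C] [Category D] [HasZeroMorphisms C] [HasZeroMorphisms D]
    (R : C ⥤ D) [R.PreservesZeroMorphisms] {K A E : C} (σ : A ⟶ E) (k : K ⟶ A) (hk : k ≫ σ = 0)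
    (r : R.obj E ⟶ R.obj A) (hr : R.map σ ≫ r = 𝟙 _) : R.map k = 0 := by
  rw [← Category.comp_id (R.map k), ← hr, ← Category.assoc, ← R.map_comp, hk, R.map_zero, zero_comp]

theorem LocRetract.mono {σ : A ⟶ E} (h : LocRetract σ) : Mono σ := by
  refine Abelian.mono_of_kernel_ι_eq_zero _ (Scheme.Modules.hom_ext _ _ fun W => ?_)
  ext s
  refine QCoh.eq_zero_of_locally W _ fun x hx => ?_
  obtain ⟨U, hxU, r, hr⟩ := h x
  haveI : (Scheme.Modules.restrictFunctor U.ι).Additive := (Scheme.Modules.restrictAdjunction U.ι).left_adjoint_additive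
  have h0 := map_ι_eq_zero (Scheme.Modules.restrictFunctor U.ι) σ (kernel.ι σ) (kernel.condition σ) r hr
  refine ⟨W ⊓ U, homOfLE inf_le_left, ⟨hx, hxU⟩, ?_⟩
  refine (ConcreteCategory.congr_hom ((kernel.ι σ).mapPresheaf.naturality
    (homOfLE (inf_le_left : W ⊓ U ≤ W)).op) s).symm.trans ?_
  have himg : W ⊓ U = U.ι ''ᵁ (U.ι ⁻¹ᵁ W) := by
    rw [Scheme.Hom.image_preimage_eq_opensRange_inf, Scheme.Opens.opensRange_ι, inf_comm]
  have key : ∀ z : Γ(kernel σ, U.ι ''ᵁ (U.ι ⁻¹ᵁ W)), (kernel.ι σ).app _ z = 0 :=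
    fun z => congr(($h0).app (U.ι ⁻¹ᵁ W) z)
  show (kernel.ι σ).app (W ⊓ U) _ = 0
  generalize (kernel σ).presheaf.map (homOfLE (inf_le_left : W ⊓ U ≤ W)).op s = z
  revert z
  rw [himg]
  exact key

theorem exists_retract_cokernel {C : Type*} [Category C] [Abelian C] {A E : C} (σ : A ⟶ E) (r : E ⟶ A)
    (hr : σ ≫ r = 𝟙 A) : ∃ d : cokernel σ ⟶ E, d ≫ cokernel.π σ = 𝟙 _ :=
  ⟨cokernel.desc σ (𝟙 E - r ≫ σ) (by rw [Preadditive.comp_sub, Category.comp_id, ← Category.assoc, hr,
      Category.id_comp, sub_self]),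
    coequalizer.hom_ext (by simp [Preadditive.sub_comp])⟩

theorem LocRetract.flf_cokernel {σ : A ⟶ E} (h : LocRetract σ) (hE : FlatMod.IsFinLocFree E) :
    FlatMod.IsFinLocFree (cokernel σ) := by
  choose U hU r hr using h
  refine ConsPropLib.isFinLocFree_of_cover (fun x : X => (U x).ι)
    (fun x => ⟨x, by rw [Scheme.Opens.range_ι]; exact hU x⟩) fun x => ?_
  haveI : (Scheme.Modules.restrictFunctor (U x).ι).Additive :=
    (Scheme.Modules.restrictAdjunction (U x).ι).left_adjoint_additive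
  obtain ⟨d, hd⟩ := exists_retract_cokernel _ (r x) (hr x)
  have h1 := Groth.Agent.S5626.flf_of_retract d _ hd (ConsPropLib.isFinLocFree_restrict (U x).ι hE)
  exact flf_iso (PreservesCokernel.iso (Scheme.Modules.restrictFunctor (U x).ι) σ).symm h1

theorem locRetract_lift {J : Type} {L : X.Modules} [HasBiproduct fun _ : J => L]
    (s : J → (Coh.structureModule X ⟶ L)) (h : ∀ x : X, ∃ j, x ∈ CohB1.genLocus L (s j)) :
    LocRetract (biproduct.lift s) := by
  intro x
  obtain ⟨j, hj⟩ := h x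
  obtain ⟨U, hxU, hU⟩ := InvX.mem_genLocus hj
  haveI : IsIso ((Scheme.Modules.restrictFunctor U.ι).map (s j)) := (InvX.isIso_restrict_iff (s j) U).2 hU
  refine ⟨U, hxU, (Scheme.Modules.restrictFunctor U.ι).map (biproduct.π (fun _ : J => L) j) ≫
      inv ((Scheme.Modules.restrictFunctor U.ι).map (s j)), ?_⟩
  rw [← Category.assoc, IsIso.comp_inv_eq, Category.id_comp, ← Functor.map_comp, biproduct.lift_π]

/-- The Euler sequence of a family of sections, pulled back. -/
theorem exists_euler_gen {Y : Scheme.{u}} (f : Y ⟶ X) {J : Type} [Fintype J] {L : X.Modules}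
    (hL : FlatMod.IsFinLocFree L) (s : J → (Coh.structureModule X ⟶ L))
    (h : ∀ x : X, ∃ j, x ∈ CohB1.genLocus L (s j)) :
    ∃ (S : ShortComplex Y.Modules), S.ShortExact ∧ Nonempty (S.X₁ ≅ Coh.structureModule Y) ∧
      FlatMod.IsFinLocFree S.X₂ ∧ FlatMod.IsFinLocFree S.X₃ ∧
      (haveI := Abelian.hasFiniteBiproducts (C := Y.Modules);
        Nonempty (S.X₂ ≅ ⨁ fun _ : J => (Scheme.Modules.pullback f).obj L)) := by
  haveI := Abelian.hasFiniteBiproducts (C := Y.Modules)
  haveI := Abelian.hasFiniteBiproducts (C := X.Modules)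
  have hσ := locRetract_lift s h
  haveI := hσ.mono
  have hE : FlatMod.IsFinLocFree (⨁ fun _ : J => L) := flf_finite_biproduct _ fun _ => hL
  let S₀ := ShortComplex.mk (biproduct.lift s) (cokernel.π _) (cokernel.condition _)
  have hS₀ : S₀.ShortExact := { exact := ShortComplex.exact_of_g_is_cokernel _ (cokernelIsCokernel _) }
  let F := Scheme.Modules.pullback f
  haveI : F.Additive := (Scheme.Modules.pullbackPushforwardAdjunction f).left_adjoint_additive
  exact ⟨S₀.map F, shortExact_pullback f hS₀ (hσ.flf_cokernel hE), ⟨pullStructureIso f⟩,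
    KFlatLib.isFinLocFree_pullback _ hE, KFlatLib.isFinLocFree_pullback _ (hσ.flf_cokernel hE),
    ⟨F.mapBiproduct _⟩⟩

end LocalRetraction

/-- The Euler sequence on `ℙⁿ_T`. -/
theorem exists_euler (n : ℕ) (T : Scheme.{u}) : ∃ (S : ShortComplex (KRR.PY n T).Modules), S.ShortExact ∧
    Nonempty (S.X₁ ≅ Coh.structureModule (KRR.PY n T)) ∧
    FlatMod.IsFinLocFree S.X₂ ∧ FlatMod.IsFinLocFree S.X₃ ∧
    (haveI := Abelian.hasFiniteBiproducts (C := (KRR.PY n T).Modules);
      Nonempty (S.X₂ ≅ ⨁ fun _ : Fin (n + 1) => Twist.twistOver n T 1)) :=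
  exists_euler_gen
    (show KRR.PY n T ⟶ Proj (CohB1.polyGrading n (ULift.{u} ℤ)) from
      pullback.fst (CohB1.ProjSpace.toSpec n (ULift.{u} ℤ)) (specULiftZIsTerminal.from T))
    (flf_of_rank (InvEnd.isFinLocFreeOfRank_one
      (isInvertible_twist (coords n (ULift.{u} ℤ)) coords_mem coords_cover 1)))
    (fun j : Fin (n + 1) => InvX.ofSect (ProjUPX.sec (CohB1.polyGrading n (ULift.{u} ℤ))
      (coords_mem (n := n) (A := ULift.{u} ℤ) (ULift.up j))))
    fun x => by
      obtain ⟨j, hj⟩ := Opens.mem_iSup.1 ((coords_cover (n := n) (A := ULift.{u} ℤ)).ge (trivial : x ∈ (⊤ : (Proj (CohB1.polyGrading n (ULift.{u} ℤ))).Opens)))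
      refine ⟨j.down, ?_⟩
      exact (AmpleX.genLocus_sec (CohB1.polyGrading n (ULift.{u} ℤ)) (coords n _) coords_mem coords_cover
        (coords_mem j)).ge hj

end Groth.Agent.KRRLib.CM
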