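import Groth.Agent.KFlatLib.Scheme.PushCoprod
import Groth.Agent.QCoh.HHExact
import Groth.Agent.PnCoh.Finite.SerreVanishing
import Groth.Agent.Lib.CurveVanish

/-!
# Cohomology of arbitrary coproducts of modules on a qcqs scheme
-/

set_option autoImplicit false
set_option linter.style.haveILetI false
set_option backward.isDefEq.respectTransparency false
set_option backward.isDefEq.respectTransparency.types false

universe u

open CategoryTheory CategoryTheory.Limits CategoryTheory.Abelian AlgebraicGeometry TopologicalSpace Opposite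

noncomputable section

namespace Groth.Agent.KRRLib.CM

open Groth.Agent Groth.Agent.KFlatLib

variable {X : Scheme.{u}} [CompactSpace X] [QuasiSeparatedSpace X] {J : Type u}

theorem subsingleton_HH_of_qcAcyclic {M : X.Modules} (h : QcAcyclic M) (n : ℕ) :
    Subsingleton (Coh.HH X M (n + 1)) :=
  QCoh.Ab.H_subsingleton (qcCovers X) ⟨isCompact_univ, isQuasiSeparated_univ⟩ (QCoh.abSheaf M) h n

/-- Evaluation of maps at a section. -/
def appAt {M N : X.Modules} (V : X.Opens) (s : Γ(M, V)) : (M ⟶ N) →+ Γ(N, V) where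
  toFun φ := φ.app V s
  map_zero' := rfl
  map_add' _ _ := rfl

omit [QuasiSeparatedSpace X] in
/-- Global sections of a coproduct lift if they do termwise. -/
theorem surjective_sigma_map {M N : J → X.Modules} (g : ∀ j, M j ⟶ N j)
    (h : ∀ j, Function.Surjective ((g j).app ⊤)) : Function.Surjective ((Limits.Sigma.map g).app ⊤) := by
  classical
  intro s
  obtain ⟨G, hG⟩ := exists_fix_section N (W := ⊤) isCompact_univ s
  let π : ∀ j, ∐ N ⟶ N j := fun j => Sigma.desc fun i => if e : i = j then eqToHom (by rw [e]) else 0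
  have hsum : finProj N G ≫ finIncl N G = ∑ j ∈ G, π j ≫ Sigma.ι N j := by
    refine Sigma.hom_ext _ _ fun i => ?_
    rw [Preadditive.comp_sum]
    simp only [π, Sigma.ι_desc_assoc]
    by_cases hi : i ∈ G
    · rw [ι_finProj_finIncl N G i hi, Finset.sum_eq_single_of_mem i hi fun j _ hj => by
        rw [dif_neg fun e => hj e.symm, zero_comp]]
      simp
    · rw [Finset.sum_eq_zero fun j hj => by rw [dif_neg (show ¬ i = j from fun e => hi (by rw [e]; exact hj)), zero_comp]]
      simp [finProj, hi]
  choose t ht using fun j => h j ((π j).app ⊤ s)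
  refine ⟨∑ j ∈ G, (Sigma.ι M j).app ⊤ (t j), ?_⟩
  rw [map_sum]
  refine Eq.trans ?_ (hG G subset_rfl)
  rw [hsum]
  refine Eq.trans ?_ (map_sum (appAt ⊤ s) _ G).symm
  refine Finset.sum_congr rfl fun j _ => ?_
  show (Sigma.ι M j ≫ Limits.Sigma.map g).app ⊤ (t j) = (Sigma.ι N j).app ⊤ ((π j).app ⊤ s)
  rw [Limits.Sigma.ι_map, ← ht j]
  rfl

/-- Coproducts of acyclic modules are acyclic in positive degrees. -/
theorem subsingleton_HH_colimit (n : ℕ) : ∀ (K : Discrete J ⥤ X.Modules),
    (∀ j, Subsingleton (Coh.HH X (K.obj j) (n + 1))) → Subsingleton (Coh.HH X (colimit K) (n + 1)) := by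
  induction n with
  | zero =>
    intro K h
    let I : J → X.Modules := fun j => Injective.under (K.obj ⟨j⟩)
    let η : K ⟶ Discrete.functor I := Discrete.natTrans fun j => Injective.ι (K.obj j)
    haveI : ∀ j, Mono (η.app j) := fun j => inferInstanceAs (Mono (Injective.ι (K.obj j)))
    haveI : Mono η := NatTrans.mono_of_mono_app η
    let T : ShortComplex (Discrete J ⥤ X.Modules) := ShortComplex.mk η (cokernel.π η) (cokernel.condition η)
    have hT : T.ShortExact := { exact := ShortComplex.exact_of_g_is_cokernel _ (cokernelIsCokernel _) }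
    have hS : (T.map colim).ShortExact := hT.map_of_exact _
    have h₂ : Subsingleton (Coh.HH X (T.map colim).X₂ 1) :=
      haveI : ∀ j, Injective (I j) := fun j => inferInstanceAs (Injective (Injective.under _))
      subsingleton_HH_of_qcAcyclic (qcAcyclic_sigma I) 0
    refine subsingleton_of_forall_eq 0 fun x => ?_
    have hT' := QCoh.toAb_shortExact hS
    obtain ⟨q, hq⟩ := Ext.covariant_sequence_exact₁ _ hT' x (h₂.elim _ _) (zero_add 1)
    obtain ⟨y, hy⟩ : ∃ y, Sheaf.H.map ((T.map colim).map (QCoh.toAbFunctor X)).g 0 y = q := by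
      have hsurj : Function.Surjective ((T.map colim).g.app ⊤) := by
        let Q : J → X.Modules := fun j => (cokernel η).obj ⟨j⟩
        let e : cokernel η ≅ Discrete.functor Q := Discrete.natIsoFunctor
        have h1 := surjective_sigma_map (M := I) (N := Q) (fun j => (cokernel.π η).app ⟨j⟩) fun j =>
          QCoh.app_top_surjective_of_HH_one (hT.map_of_exact ((evaluation _ _).obj ⟨j⟩)) (h ⟨j⟩)
        intro s
        obtain ⟨t, ht⟩ := h1 ((colim.map e.hom).app ⊤ s)
        refine ⟨t, ?_⟩
        have h2 : Limits.Sigma.map (fun j => (cokernel.π η).app ⟨j⟩) = colim.map (cokernel.π η) ≫ colim.map e.hom := by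
          refine Sigma.hom_ext _ _ fun j => ?_
          simp [e, Discrete.natIsoFunctor, Q]
        rw [h2] at ht
        exact (ConcreteCategory.bijective_of_isIso ((colim.map e.hom).app ⊤)).1 ht
      obtain ⟨i₀, hi₀⟩ := hsurj (Sheaf.H.equiv₀ _ isTerminalTop q)
      refine ⟨(Sheaf.H.equiv₀ _ isTerminalTop).symm i₀, ?_⟩
      rw [Sheaf.H.equiv₀_symm_naturality]
      exact (congrArg _ hi₀).trans (AddEquiv.symm_apply_apply _ _)
    rw [← hq, ← hy, Sheaf.H.map_apply]
    refine (Ext.comp_assoc_of_second_deg_zero y (Ext.mk₀ _) hT'.extClass _).trans ?_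
    exact (congrArg (fun z => Ext.comp y z _) hT'.comp_extClass).trans (Ext.comp_zero _ _ _ _ _)
  | succ n ih =>
    intro K h
    let I : J → X.Modules := fun j => Injective.under (K.obj ⟨j⟩)
    let η : K ⟶ Discrete.functor I := Discrete.natTrans fun j => Injective.ι (K.obj j)
    haveI : ∀ j, Mono (η.app j) := fun j => inferInstanceAs (Mono (Injective.ι (K.obj j)))
    haveI : Mono η := NatTrans.mono_of_mono_app η
    let T : ShortComplex (Discrete J ⥤ X.Modules) := ShortComplex.mk η (cokernel.π η) (cokernel.condition η)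
    have hT : T.ShortExact := { exact := ShortComplex.exact_of_g_is_cokernel _ (cokernelIsCokernel _) }
    haveI : ∀ j, Injective (I j) := fun j => inferInstanceAs (Injective (Injective.under _))
    refine CurveVanish.subsingleton_HH_X₁ (hT.map_of_exact (colim (J := Discrete J) (C := X.Modules))) (n + 1)
      (subsingleton_HH_of_qcAcyclic (qcAcyclic_sigma I) (n + 1)) (ih (cokernel η) fun j => ?_)
    exact PnCoh.Finite.subsingleton_HH_X₃ (hT.map_of_exact ((evaluation _ _).obj j)) (n + 1)
      (subsingleton_HH_of_qcAcyclic (qcAcyclic_of_injective (I j.as)) n) (h j)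

end Groth.Agent.KRRLib.CM
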