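import Groth.Agent.S0844
import Groth.Agent.KRRLib.CM.SigmaVanish
import Groth.Agent.KRRLib.CM.ProjGen
import Groth.Agent.KRRLib.PnBC.FlatPn
import Groth.Agent.KRRLib.Model
import Groth.Agent.KFlatLib.Scheme.PushKInj
import Groth.Agent.KFlatLib.Scheme.QCohTensor
import Groth.Agent.QCoh.Pullback
import Groth.Agent.H23.PicMul

/-!
# Cohomology of twists of modules pulled back from the base to projective space
-/

set_option autoImplicit false
set_option linter.style.haveILetI false
set_option linter.unusedSectionVars false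
set_option backward.isDefEq.respectTransparency false
set_option backward.isDefEq.respectTransparency.types false
set_option maxHeartbeats 1000000

universe u

open CategoryTheory CategoryTheory.Limits AlgebraicGeometry TopologicalSpace Opposite
open Groth.Agent.PnCoh.Finite

noncomputable section

namespace Groth.Agent.KRRLib.CM

open Groth.Agent Groth.Agent.PnCoh

variable (n : ℕ) (A : Type u) [CommRing A]

instance isSeparated_proj : (Proj (CohB1.polyGrading n A)).IsSeparated := inferInstance

theorem isQCoh_tw {G : (Proj (CohB1.polyGrading n A)).Modules} (hG : Coh.IsQCoh G) (d : ℤ) :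
    Coh.IsQCoh (ProjRegular.tw (𝒜 := CohB1.polyGrading n A) G d) :=
  KFlatLib.isQCoh_tensor hG (ProjUPX.isQCoh_of_isInvertible
    (isInvertible_twist (coords n A) coords_mem coords_cover d))

/-- Vanishing in degrees above `n`. -/
theorem subsingleton_HH_high {G : (Proj (CohB1.polyGrading n A)).Modules} (hG : Coh.IsQCoh G) (q : ℕ)
    (hq : n < q) : Subsingleton (Coh.HH (Proj (CohB1.polyGrading n A)) G q) :=
  QCoh.HH_subsingleton_of_cover (X := Proj (CohB1.polyGrading n A)) (n + 1)
    (fun j => D (CohB1.polyGrading n A) (coords n A (ULift.up j)))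
    (fun j => isAffineOpen_D coords_mem _)
    (top_le_iff.1 (coords_cover.ge.trans (iSup_le fun j => le_iSup_of_le j.down le_rfl)))
    (fun V W hV hW => IsAffineOpen.inf hV hW) hG q hq

/-- The projection. -/
def toP : Proj (CohB1.polyGrading n A) ⟶ Spec (CommRingCat.of A) := CohB1.ProjSpace.toSpec n A

instance flat_toP : Flat (toP n A) := PnBC.flat_toSpec n A

/-- Pull back from the base and twist. -/
def pullTw (d : ℤ) : (Spec (CommRingCat.of A)).Modules ⥤ (Proj (CohB1.polyGrading n A)).Modules :=
  Scheme.Modules.pullback (toP n A) ⋙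
    DCoh.tensorBi.flip.obj (Twist.twist (CohB1.polyGrading n A) d)

instance additive_pullTw (d : ℤ) : (pullTw n A d).Additive := by
  haveI : (Scheme.Modules.pullback (toP n A)).Additive :=
    (Scheme.Modules.pullbackPushforwardAdjunction (toP n A)).left_adjoint_additive
  unfold pullTw
  infer_instance

theorem shortExact_pullback_flat {X Y : Scheme.{u}} (f : X ⟶ Y) [Flat f] {S : ShortComplex Y.Modules}
    (hS : S.ShortExact) : (S.map (Scheme.Modules.pullback f)).ShortExact := by
  rw [KFlatLib.shortExact_iff_stalk]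
  intro x
  haveI := ModuleCat.preservesFiniteLimits_extendScalars_of_flat (Flat.stalkMap f x)
  exact ShortComplex.shortExact_of_iso (S.mapNatIso (KFlatLib.stalkPullbackIso f x)).symm
    (((KFlatLib.shortExact_iff_stalk S).1 hS (f.base x)).map_of_exact (ModuleCat.extendScalars (f.stalkMap x).hom))

theorem shortExact_map_comp {C D E : Type*} [Category C] [Category D] [Category E] [HasZeroMorphisms C]
    [HasZeroMorphisms D] [HasZeroMorphisms E] (F : C ⥤ D) (G : D ⥤ E) [F.PreservesZeroMorphisms]
    [G.PreservesZeroMorphisms] [(F ⋙ G).PreservesZeroMorphisms] {S : ShortComplex C}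
    (h : ((S.map F).map G).ShortExact) : (S.map (F ⋙ G)).ShortExact := h

theorem shortExact_pullTw (d : ℤ) {S : ShortComplex (Spec (CommRingCat.of A)).Modules} (hS : S.ShortExact) :
    (S.map (pullTw n A d)).ShortExact := by
  haveI : (Scheme.Modules.pullback (toP n A)).Additive :=
    (Scheme.Modules.pullbackPushforwardAdjunction (toP n A)).left_adjoint_additive
  haveI : (Scheme.Modules.pullback (toP n A) ⋙
      DCoh.tensorBi.flip.obj (Twist.twist (CohB1.polyGrading n A) d)).Additive := inferInstance
  exact shortExact_map_comp (Scheme.Modules.pullback (toP n A))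
    (DCoh.tensorBi.flip.obj (Twist.twist (CohB1.polyGrading n A) d))
    (shortExact_twistBy (coords n A) coords_mem coords_cover d (shortExact_pullback_flat (toP n A) hS))

theorem nonempty_pullTw_unit (d : ℤ) :
    Nonempty ((pullTw n A d).obj (Coh.structureModule _) ≅ Twist.twist (CohB1.polyGrading n A) d) := by
  obtain ⟨c⟩ := H23.PicMul.comm (Coh.structureModule (Proj (CohB1.polyGrading n A)))
    (Twist.twist (CohB1.polyGrading n A) d)
  let L := Twist.twist (CohB1.polyGrading n A) d
  let e : (Scheme.Modules.pullback (toP n A)).obj (Coh.structureModule _) ≅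
      Coh.structureModule (Proj (CohB1.polyGrading n A)) := pullStructureIso (toP n A)
  let e' : ((DCoh.tensorBi.flip.obj L).obj ((Scheme.Modules.pullback (toP n A)).obj (Coh.structureModule _))) ≅
      (DCoh.tensorBi.obj (Coh.structureModule (Proj (CohB1.polyGrading n A)))).obj L :=
    (DCoh.tensorBi.flip.obj L).mapIso e
  let c' : (DCoh.tensorBi.obj (Coh.structureModule (Proj (CohB1.polyGrading n A)))).obj L ≅
      (DCoh.tensorBi.obj L).obj (Coh.structureModule (Proj (CohB1.polyGrading n A))) := c
  exact ⟨e' ≪≫ c' ≪≫ KFlatLib.tensorUnitIso L⟩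

theorem subsingleton_HH_pullTw_free (ι : Type u) (d : ℤ) (hd : -(n : ℤ) ≤ d) (q : ℕ) :
    Subsingleton (Coh.HH (Proj (CohB1.polyGrading n A))
      ((pullTw n A d).obj (∐ fun _ : ι => Coh.structureModule (Spec (CommRingCat.of A)))) (q + 1)) := by
  haveI : PreservesColimitsOfShape (Discrete ι) (Scheme.Modules.pullback (toP n A)) :=
    (Scheme.Modules.pullbackPushforwardAdjunction (toP n A)).leftAdjoint_preservesColimits.preservesColimitsOfShape
  haveI : PreservesColimitsOfShape (Discrete ι) (pullTw n A d) :=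
    comp_preservesColimitsOfShape (Scheme.Modules.pullback (toP n A)) _
  obtain ⟨e⟩ := nonempty_pullTw_unit n A d
  refine QCoh.subsingleton_HH_of_iso
    (PreservesCoproduct.iso (pullTw n A d) (fun _ : ι => Coh.structureModule (Spec (CommRingCat.of A))) ≪≫
      Sigma.mapIso fun _ => e).symm _ (subsingleton_HH_colimit q _ fun j => ?_)
  exact S0844.result A n d (q + 1) (fun h => absurd h.1 (Nat.succ_ne_zero q)) (fun h => by omega)

/-- A quasi-coherent module on an affine scheme is a quotient of a free one. -/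
theorem exists_free_epi {R : CommRingCat.{u}} {N : (Spec R).Modules} (hN : Coh.IsQCoh N) :
    ∃ (ι : Type u) (p : (∐ fun _ : ι => Coh.structureModule (Spec R)) ⟶ N), Epi p := by
  obtain ⟨N₀, ⟨eN⟩⟩ := QCoh.isQCoh_spec_iff.1 hN
  let p : ModuleCat.of R ((N₀ : Type u) →₀ R) ⟶ N₀ :=
    ModuleCat.ofHom (Finsupp.linearCombination R id)
  haveI hp : Epi p := (ModuleCat.epi_iff_surjective p).2 fun m =>
    ⟨Finsupp.single m 1, by simp [p]⟩
  haveI : Epi ((tilde.functor R).map p) := inferInstance
  exact ⟨N₀, (show (∐ fun _ : (N₀ : Type u) => Coh.structureModule (Spec R)) ⟶ _ from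
    (tildeFinsupp (R := R) N₀).inv ≫ (tilde.functor R).map p ≫ eN.hom), inferInstance⟩

theorem subsingleton_HH_map_X₃ {C : Type*} [Category C] [HasZeroMorphisms C] {X : Scheme.{u}} (F : C ⥤ X.Modules)
    [F.PreservesZeroMorphisms] {S : ShortComplex C} (h : (S.map F).ShortExact) (m : ℕ)
    (h₂ : Subsingleton (Coh.HH X (F.obj S.X₂) m)) (h₁ : Subsingleton (Coh.HH X (F.obj S.X₁) (m + 1))) :
    Subsingleton (Coh.HH X (F.obj S.X₃) m) :=
  PnCoh.Finite.subsingleton_HH_X₃ h m h₂ h₁

/-- `Hᵠ(ℙⁿ_A, (pr^* N)(d)) = 0` for `q ≥ 1` and `d ≥ -n`. -/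
theorem subsingleton_HH_pullTw (d : ℤ) (hd : -(n : ℤ) ≤ d) (q : ℕ) (hq : 1 ≤ q)
    {N : (Spec (CommRingCat.of A)).Modules} (hN : Coh.IsQCoh N) :
    Subsingleton (Coh.HH (Proj (CohB1.polyGrading n A)) ((pullTw n A d).obj N) q) := by
  suffices h : ∀ j q : ℕ, 1 ≤ q → n < q + j → ∀ N : (Spec (CommRingCat.of A)).Modules, Coh.IsQCoh N →
      Subsingleton (Coh.HH (Proj (CohB1.polyGrading n A)) ((pullTw n A d).obj N) q) from
    h n q hq (by omega) N hN
  intro j
  induction j with
  | zero =>
    exact fun q _ hnq N hN => subsingleton_HH_high n A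
      (isQCoh_tw n A (QCoh.isQCoh_pullback (toP n A) hN) d) q (by omega)
  | succ j ih =>
    intro q hq hnq N hN
    obtain ⟨ι, p, hp⟩ := exists_free_epi hN
    have hS : (ShortComplex.mk (kernel.ι p) p (kernel.condition p)).ShortExact :=
      { exact := ShortComplex.exact_kernel p }
    have hF : Coh.IsQCoh (∐ fun _ : ι => Coh.structureModule (Spec (CommRingCat.of A))) :=
      QCoh.isQCoh_colimit _ fun _ => ProjUPX.isQCoh_of_isInvertible InvX.isInvertible_structureModule
    obtain ⟨r, rfl⟩ := Nat.exists_eq_add_of_le' hq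
    have h₂ := subsingleton_HH_pullTw_free n A ι d hd r
    have h₁ := ih (r + 1 + 1) (by omega) (by omega) _ (QCoh.isQCoh_kernel hF hN p)
    exact subsingleton_HH_map_X₃ (pullTw n A d) (S := ShortComplex.mk (kernel.ι p) p (kernel.condition p))
      (shortExact_pullTw n A d hS) (r + 1) h₂ h₁

/-- `pr^* N` is regular, and so are its positive twists. -/
theorem subsingleton_HH_tw_pullback (d : ℤ) (hd : -(n : ℤ) ≤ d) (q : ℕ) (hq : 1 ≤ q)
    {N : (Spec (CommRingCat.of A)).Modules} (hN : Coh.IsQCoh N) :
    Subsingleton (Coh.HH (Proj (CohB1.polyGrading n A))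
      (ProjRegular.tw (𝒜 := CohB1.polyGrading n A) ((Scheme.Modules.pullback (toP n A)).obj N) d) q) :=
  subsingleton_HH_pullTw n A d hd q hq hN

end Groth.Agent.KRRLib.CM
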