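import Groth.Agent.InvX.Pullback
import Groth.Prelude.Def_KRR

/-!
# When are all sections of a pullback pulled back sections?
-/

set_option autoImplicit false
set_option linter.style.haveILetI false
set_option backward.isDefEq.respectTransparency false
set_option backward.isDefEq.respectTransparency.types false

universe u

open CategoryTheory CategoryTheory.Limits AlgebraicGeometry TopologicalSpace Opposite

noncomputable section

namespace Groth.Agent.KRRLib.CM

open Groth.Agent

variable {X Y Z : Scheme.{u}}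

/-- Every section over the preimage is a pulled back section. -/
def PullSurj (f : X ⟶ Y) (N : Y.Modules) (U : Y.Opens) : Prop :=
  Function.Surjective (InvX.pullElt f (M := N) (U := U))

theorem pullSurj_congr {f f' : X ⟶ Y} (h : f = f') {N : Y.Modules} {U : Y.Opens} :
    PullSurj f N U ↔ PullSurj f' N U := by subst h; rfl

theorem pullElt_comp (f : X ⟶ Y) (g : Y ⟶ Z) (N : Z.Modules) (U : Z.Opens) (s : Γ(N, U)) :
    ((Scheme.Modules.pullbackComp f g).inv.app N).app ((f ≫ g) ⁻¹ᵁ U) (InvX.pullElt (f ≫ g) s) =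
      InvX.pullElt f (InvX.pullElt g s) := by
  have h := unit_conjugateEquiv
    ((Scheme.Modules.pullbackPushforwardAdjunction g).comp (Scheme.Modules.pullbackPushforwardAdjunction f))
    (Scheme.Modules.pullbackPushforwardAdjunction (f ≫ g)) (Scheme.Modules.pullbackComp f g).inv N
  rw [Scheme.Modules.conjugateEquiv_pullbackComp_inv] at h
  exact (congr(($h).app U s)).symm

theorem PullSurj.comp {f : X ⟶ Y} {g : Y ⟶ Z} {N : Z.Modules} {U : Z.Opens} (hg : PullSurj g N U)
    (hf : PullSurj f ((Scheme.Modules.pullback g).obj N) (g ⁻¹ᵁ U)) : PullSurj (f ≫ g) N U := by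
  intro t
  obtain ⟨m, hm⟩ := hf (((Scheme.Modules.pullbackComp f g).inv.app N).app ((f ≫ g) ⁻¹ᵁ U) t)
  obtain ⟨s, rfl⟩ := hg m
  refine ⟨s, (ConcreteCategory.bijective_of_isIso
    (((Scheme.Modules.pullbackComp f g).inv.app N).app ((f ≫ g) ⁻¹ᵁ U))).1 ?_⟩
  exact (pullElt_comp f g N U s).trans hm

theorem PullSurj.of_comp {f : X ⟶ Y} {g : Y ⟶ Z} {N : Z.Modules} {U : Z.Opens} (h : PullSurj (f ≫ g) N U)
    (hf : Function.Injective (InvX.pullElt f (M := (Scheme.Modules.pullback g).obj N) (U := g ⁻¹ᵁ U))) :
    PullSurj g N U := by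
  intro x
  obtain ⟨t, ht⟩ := (ConcreteCategory.bijective_of_isIso
    (((Scheme.Modules.pullbackComp f g).inv.app N).app ((f ≫ g) ⁻¹ᵁ U))).2 (InvX.pullElt f x)
  obtain ⟨s, rfl⟩ := h t
  exact ⟨s, hf ((pullElt_comp f g N U s).symm.trans ht)⟩

/-- Along an open immersion, sections below the image pull back bijectively. -/
theorem bijective_pullElt_of_le (j : X ⟶ Y) [IsOpenImmersion j] (N : Y.Modules) {U : Y.Opens}
    (hU : U ≤ j.opensRange) : Function.Bijective (InvX.pullElt j (M := N) (U := U)) := by
  have h := (Scheme.Modules.restrictAdjunction j).unit_leftAdjointUniq_hom_app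
    (Scheme.Modules.pullbackPushforwardAdjunction j) N
  have himg : j ''ᵁ (j ⁻¹ᵁ U) = U := by
    rw [Scheme.Hom.image_preimage_eq_opensRange_inf, inf_eq_right.2 hU]
  let η := (Scheme.Modules.restrictAdjunction j).unit.app N
  let θ := ((Scheme.Modules.restrictAdjunction j).leftAdjointUniq
    (Scheme.Modules.pullbackPushforwardAdjunction j)).hom.app N
  have key : ∀ s : Γ(N, U), InvX.pullElt j s = θ.app (j ⁻¹ᵁ U) (η.app U s) := fun s => (congr(($h).app U s)).symm
  haveI : IsIso θ := inferInstanceAs (IsIso (((Scheme.Modules.restrictAdjunction j).leftAdjointUniq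
    (Scheme.Modules.pullbackPushforwardAdjunction j)).hom.app N))
  have hη : Function.Bijective (η.app U) := by
    haveI : IsIso (η.app U) := by
      show IsIso ((Scheme.Modules.restrictAdjunction j).unit.app N |>.app U)
      simp only [Scheme.Modules.restrictAdjunction_unit_app_app]
      haveI : IsIso (homOfLE (le_of_eq himg) : j ''ᵁ (j ⁻¹ᵁ U) ⟶ U) := by
        exact ⟨homOfLE (le_of_eq himg.symm), Subsingleton.elim _ _, Subsingleton.elim _ _⟩
      infer_instance
    exact ConcreteCategory.bijective_of_isIso (η.app U)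
  rw [show InvX.pullElt j (M := N) (U := U) = θ.app (j ⁻¹ᵁ U) ∘ η.app U from funext key]
  exact (ConcreteCategory.bijective_of_isIso (θ.app (j ⁻¹ᵁ U))).comp hη

end Groth.Agent.KRRLib.CM
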