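import Groth.Prelude.Def_ega3
import Mathlib.Algebra.Category.ModuleCat.Projective
import Mathlib.Algebra.Homology.ShortComplex.ModuleCat
import Mathlib.CategoryTheory.Preadditive.Projective.Basic

/-!
# Bounded below exact complexes of projectives stay exact after base change
-/

set_option autoImplicit false
set_option linter.style.haveILetI false
set_option backward.isDefEq.respectTransparency false
set_option backward.isDefEq.respectTransparency.types false

universe u

open CategoryTheory CategoryTheory.Limits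

noncomputable section

namespace Groth.Agent.KRRLib.CM

variable {A : Type u} [CommRing A] (P : ChainComplex (ModuleCat.{u} A) ℤ)

/-- The contraction in low degrees. -/
theorem exists_split (hproj : ∀ i, Module.Projective A (P.X i)) (c : ℤ) (hc : ∀ i, i < c → IsZero (P.X i))
    (t : ℤ) (hex : ∀ i, i ≤ t → P.ExactAt i) :
    ∀ i, i ≤ t → ∃ (s : P.X i ⟶ P.X (i + 1)),
      P.d (i + 1) i ≫ s ≫ P.d (i + 1) i = P.d (i + 1) i ∧
      ∃ s' : P.X (i - 1) ⟶ P.X i, P.d i (i - 1) ≫ s' + s ≫ P.d (i + 1) i = 𝟙 (P.X i) := by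
  suffices h : ∀ (k : ℕ) (i : ℤ), i ≤ t → i < c + k → ∃ (s : P.X i ⟶ P.X (i + 1)),
      P.d (i + 1) i ≫ s ≫ P.d (i + 1) i = P.d (i + 1) i ∧
      ∃ s' : P.X (i - 1) ⟶ P.X i, P.d i (i - 1) ≫ s' + s ≫ P.d (i + 1) i = 𝟙 (P.X i) from
    fun i hi => h (i - c + 1).toNat i hi (by omega)
  intro k
  induction k with
  | zero =>
    intro i _ hik
    exact ⟨0, (hc i (by omega)).eq_of_tgt _ _, 0, (hc i (by omega)).eq_of_src _ _⟩
  | succ k ih =>
    intro i hi hik
    obtain ⟨j, rfl⟩ : ∃ j, i = j + 1 := ⟨i - 1, by omega⟩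
    obtain ⟨sp, hsp, -⟩ := ih j (by omega) (by omega)
    let e : P.X (j + 1) ⟶ P.X (j + 1) := 𝟙 _ - P.d (j + 1) j ≫ sp
    have he : e ≫ P.d (j + 1) j = 0 := by
      simp only [e, Preadditive.sub_comp, Category.id_comp, Category.assoc, hsp, sub_self]
    have hS : (P.sc' (j + 1 + 1) (j + 1) j).Exact :=
      (P.exactAt_iff' (j + 1 + 1) (j + 1) j (by simp) (by simp)).1 (hex (j + 1) hi)
    haveI : Projective (P.X (j + 1)) :=
      haveI := hproj (j + 1)
      (IsProjective.iff_projective (R := A) (P.X (j + 1))).1 inferInstance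
    let s : P.X (j + 1) ⟶ P.X (j + 1 + 1) := hS.liftFromProjective e he
    have hs : s ≫ P.d (j + 1 + 1) (j + 1) = e := hS.liftFromProjective_comp e he
    refine ⟨s, ?_, ?_⟩
    · rw [hs]
      simp only [e, Preadditive.comp_sub, Category.comp_id, P.d_comp_d_assoc, zero_comp, sub_zero]
    · have hj : j + 1 - 1 = j := by omega
      refine ⟨eqToHom (by rw [hj]) ≫ sp, ?_⟩
      rw [hs]
      have key : ∀ (m : ℤ) (hm : m = j), P.d (j + 1) m ≫ eqToHom (congrArg P.X hm) = P.d (j + 1) j := by
        rintro m rfl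
        simp
      have : P.d (j + 1) (j + 1 - 1) ≫ eqToHom (by rw [hj]) = P.d (j + 1) j := key _ hj
      rw [← Category.assoc, this]
      simp [e]

/-- Exactness in low degrees survives every base change. -/
theorem exactAt_bcCx (hproj : ∀ i, Module.Projective A (P.X i)) (c : ℤ) (hc : ∀ i, i < c → IsZero (P.X i))
    (t : ℤ) (hex : ∀ i, i ≤ t → P.ExactAt i) {B : Type u} [CommRing B] (φ : A →+* B) (i : ℤ) (hi : i ≤ t) :
    (CohIII.bcCx φ P).ExactAt i := by
  obtain ⟨s, -, s', h⟩ := exists_split P hproj c hc t hex i hi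
  let F := ModuleCat.extendScalars.{u, u, u} φ
  haveI : F.Additive := inferInstance
  rw [(CohIII.bcCx φ P).exactAt_iff' (i + 1) i (i - 1) (by simp) (by simp), ShortComplex.moduleCat_exact_iff]
  intro x hx
  refine ⟨F.map s x, ?_⟩
  have h' : F.map (P.d i (i - 1)) ≫ F.map s' + F.map s ≫ F.map (P.d (i + 1) i) = 𝟙 (F.obj (P.X i)) := by
    rw [← F.map_comp, ← F.map_comp, ← F.map_add, h, F.map_id]
  have h'' := congr(($h') x)
  simp only [ModuleCat.hom_add, LinearMap.add_apply, ModuleCat.hom_comp, LinearMap.comp_apply, ModuleCat.hom_id,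
    LinearMap.id_apply] at h''
  refine Eq.trans ?_ h''
  refine Eq.symm ((congrArg (fun y => y + _) ((congrArg (F.map s') hx).trans (map_zero _))).trans (zero_add _))

end Groth.Agent.KRRLib.CM
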