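import Groth.Agent.KRRLib.CM.RpushVanish
import Groth.Agent.KRRLib.CM.SplitExact
import Groth.Agent.KRRLib.CM.BaseChangeVanish
import Groth.Agent.QCoh.RpushExchange

/-!
# Direct images without higher cohomology are locally free
-/

set_option autoImplicit false
set_option linter.style.haveILetI false
set_option backward.isDefEq.respectTransparency false
set_option backward.isDefEq.respectTransparency.types false
set_option maxHeartbeats 1000000

universe u

open CategoryTheory CategoryTheory.Limits AlgebraicGeometry TopologicalSpace Opposite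

noncomputable section

namespace Groth.Agent.KRRLib.CM

open Groth.Agent Groth.Agent.QCoh

variable {X S : Scheme.{u}} {f : X ⟶ S} [IsProper f] [IsLocallyNoetherian S] [HasInjectiveResolutions X.Modules]
  {M : X.Modules}

/-- The direct image of a flat coherent module without higher direct images is locally free. -/
theorem isFinLocFree_push_of_isZero (hM : Coh.IsCoh M) (hfl : FlatMod.IsFlatOver f M)
    (h : ∀ q : ℕ, IsZero ((Coh.RpushAb f (q + 1)).obj (Coh.toAb M))) :
    FlatMod.IsFinLocFree ((Scheme.Modules.pushforward f).obj M) := by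
  haveI := SpObjSS.enoughInjectives_of_hasInjectiveResolutions (C := X.Modules)
  haveI := QCoh.preservesFiniteLimits_push f
  let e0 := (Scheme.Modules.pushforward f).rightDerivedZeroIsoSelf.app M
  intro y
  obtain ⟨_, ⟨V, hV, rfl⟩, hy, -⟩ :=
    S.isBasis_affineOpens.exists_subset_of_mem_open (Set.mem_univ y) isOpen_univ
  have hV' : IsAffineOpen V := hV
  haveI : IsNoetherianRing Γ(S, V) := IsLocallyNoetherian.component_noetherian ⟨V, hV'⟩
  obtain ⟨P, hP⟩ := exists_isLocalModel hM hfl hV'
  obtain ⟨c, hc⟩ := hP.2.2.1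
  let x := hV'.primeIdealOf ⟨y, hy⟩
  have hex : ∀ i : ℤ, i ≤ -1 → P.ExactAt i := fun i hi => by
    obtain ⟨j, rfl⟩ : ∃ j : ℕ, i = -((j + 1 : ℕ) : ℤ) := ⟨(-i).toNat - 1, by omega⟩
    obtain ⟨l⟩ := hP.2.2.2.2.1 (j + 1)
    obtain ⟨l'⟩ := nonempty_sections_HH (f := f) hM.1 hV' (j + 1)
    haveI := (isZero_RpushAb_iff f hM.1 j).1 (h j) V hV'
    haveI : Subsingleton Γ((Coh.Rpush f (j + 1)).obj M, V) := l'.toEquiv.subsingleton
    exact (subsingleton_iff_exactAt _ _).1 l.toEquiv.symm.subsingleton
  have hd : ∀ i : ℕ, i ≠ 0 → Subsingleton (CohIII.fiberH f M y i) := fun i hi => by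
    obtain ⟨h1, h2⟩ := hP.2.2.2.2.2 i y hy
    have hproj : ∀ j, Module.Projective Γ(S, V) (P.X j) := fun j => @Module.Projective.of_free _ _ _ _ _ (hP.2.1 j)
    have h3 := exactAt_bcCx P hproj c hc (-1) hex (algebraMap Γ(S, V) x.asIdeal.ResidueField) (-(i : ℤ)) (by omega)
    haveI := (subsingleton_iff_exactAt _ _).2 h3
    haveI := h2
    refine Module.finrank_zero_iff.1 (h1.trans ?_)
    exact Module.finrank_zero_of_subsingleton
  obtain ⟨U, hU, ⟨e⟩⟩ := exists_free_of_concentrated hM hfl 0 y hd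
  exact ⟨U, _, hU, ⟨((Scheme.Modules.restrictFunctor U.ι).mapIso e0).symm ≪≫ e⟩⟩

end Groth.Agent.KRRLib.CM
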