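import Groth.Agent.KRRLib.CM.RegPush
import Groth.Agent.KFlatLib.Perfect.Top

/-!
# `p_* p^* N = N`, and base change for regular bundles
-/

set_option autoImplicit false
set_option linter.style.haveILetI false
set_option linter.unusedSectionVars false
set_option backward.isDefEq.respectTransparency false
set_option backward.isDefEq.respectTransparency.types false
set_option maxHeartbeats 1000000

universe u

open CategoryTheory CategoryTheory.Limits AlgebraicGeometry TopologicalSpace Opposite
open scoped ZeroObject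

noncomputable section

namespace Groth.Agent.KRRLib.CM

open Groth.Agent

theorem mono_of_affine_injective {X : Scheme.{u}} {M N : X.Modules} (φ : M ⟶ N)
    (h : ∀ V : X.Opens, IsAffineOpen V → Function.Injective (φ.app V)) : Mono φ := by
  refine Abelian.mono_of_kernel_ι_eq_zero φ (Scheme.Modules.hom_ext _ _ fun U => ?_)
  ext s
  refine QCoh.eq_zero_of_locally U _ fun x hx => ?_
  obtain ⟨_, ⟨V, hV, rfl⟩, hxV, hVU⟩ := X.isBasis_affineOpens.exists_subset_of_mem_open hx U.2
  refine ⟨V, homOfLE hVU, hxV, ?_⟩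
  refine (ConcreteCategory.congr_hom ((kernel.ι φ).mapPresheaf.naturality (homOfLE hVU).op) s).symm.trans ?_
  refine h V hV (Eq.trans ?_ (map_zero _).symm)
  show (kernel.ι φ ≫ φ).app V _ = 0
  rw [kernel.condition]
  rfl

theorem isIso_of_affine_bijective {X : Scheme.{u}} {M N : X.Modules} (φ : M ⟶ N)
    (h : ∀ V : X.Opens, IsAffineOpen V → Function.Bijective (φ.app V)) : IsIso φ := by
  haveI := mono_of_affine_injective φ fun V hV => (h V hV).1
  haveI := epi_of_affine_surjective φ fun V hV => (h V hV).2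
  exact isIso_of_mono_of_epi φ

theorem pullElt_injective_congr {X Y : Scheme.{u}} {f f' : X ⟶ Y} (h : f = f') {N : Y.Modules} {U : Y.Opens}
    (hi : Function.Injective (InvX.pullElt f (M := N) (U := U))) :
    Function.Injective (InvX.pullElt f' (M := N) (U := U)) := by
  subst h
  exact hi

/-- Pulling back sections along a morphism with a section is injective. -/
theorem pullElt_injective_of_section {X Y : Scheme.{u}} (f : X ⟶ Y) (z : Y ⟶ X) (hz : z ≫ f = 𝟙 Y)
    (N : Y.Modules) (U : Y.Opens) : Function.Injective (InvX.pullElt f (M := N) (U := U)) := by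
  intro a b hab
  refine pullElt_injective_congr hz.symm (bijective_pullElt_of_le (𝟙 Y) N (U := U)
    (fun x _ => ⟨x, rfl⟩)).1 ?_
  refine (ConcreteCategory.bijective_of_isIso
    (((Scheme.Modules.pullbackComp z f).inv.app N).app ((z ≫ f) ⁻¹ᵁ U))).1 ?_
  rw [pullElt_comp, pullElt_comp, hab]

variable (n : ℕ) (T : Scheme.{u})

/-- A section of the projection. -/
def zT : T ⟶ KRR.PY n T :=
  pullback.lift
    (specULiftZIsTerminal.from T ≫
      Spec.map (CommRingCat.ofHom (PnBC.evalChart (n := n) (k := ULift.{u} ℤ) 0 (RingHom.id (ULift.{u} ℤ)) (fun _ => 1) rfl)) ≫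
        Proj.awayι (CohB1.polyGrading n (ULift.{u} ℤ)) (MvPolynomial.X 0) (PnBC.X_mem_one n _ 0) Nat.one_pos)
    (𝟙 T) (specULiftZIsTerminal.hom_ext _ _)

theorem zT_pr : zT n T ≫ KRR.pr n T = 𝟙 T := pullback.lift_snd _ _ _

variable {n T}

/-- `N ⟶ p_* p^* N` is an isomorphism. -/
theorem isIso_unit_pr {N : T.Modules} (hN : Coh.IsQCoh N) :
    IsIso ((Scheme.Modules.pullbackPushforwardAdjunction (KRR.pr n T)).unit.app N) :=
  isIso_of_affine_bijective _ fun _ hV =>
    ⟨pullElt_injective_of_section (KRR.pr n T) (zT n T) (zT_pr n T) N _, pullSurj_pr hN hV⟩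

/-- `p_*` of the counit is an isomorphism. -/
theorem isIso_push_counit {G : (KRR.PY n T).Modules} (hG : Coh.IsQCoh G) :
    IsIso ((Scheme.Modules.pushforward (KRR.pr n T)).map
      ((Scheme.Modules.pullbackPushforwardAdjunction (KRR.pr n T)).counit.app G)) := by
  haveI := isIso_unit_pr (n := n) (T := T) (QCoh.isQCoh_pushforward (KRR.pr n T) hG)
  exact IsIso.of_isIso_fac_left
    ((Scheme.Modules.pullbackPushforwardAdjunction (KRR.pr n T)).right_triangle_components G)

/-- Vanishing of all cohomology over the affine opens. -/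
def AllZero (K : (KRR.PY n T).Modules) : Prop :=
  ∀ (V : T.Opens) (hV : IsAffineOpen V) (j : ℕ),
    Subsingleton (Coh.HH (Proj (CohB1.polyGrading n Γ(T, V))) ((Scheme.Modules.pullback (jV n hV)).obj K) j)

/-- The kernel of the counit at a regular module has no cohomology at all. -/
theorem allZero_kernel_counit {G : (KRR.PY n T).Modules} (hG : Coh.IsQCoh G) (hR : KRR.IsRegSheaf n T G) :
    AllZero (kernel ((Scheme.Modules.pullbackPushforwardAdjunction (KRR.pr n T)).counit.app G)) := by
  intro V hV j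
  rcases j with _ | j
  · exact (subsingleton_HH_zero _).2 (subsingleton_HH_zero_kernel_counit hG hV)
  · let K := (Scheme.Modules.pullback (jV n hV)).obj
      (kernel ((Scheme.Modules.pullbackPushforwardAdjunction (KRR.pr n T)).counit.app G))
    have h1 := (isRegSheaf_twF_iff (isQCoh_kernel_counit hG) 1).1 (isRegSheaf_twF_kernel_counit hG hR) V hV
    have h2 := ProjRegular.reg_add coords_mem coords_cover h1 j (j + 1) (Nat.succ_pos j)
    obtain ⟨e⟩ := tw_tw_iso K 1 ((j : ℤ) - ((j + 1 : ℕ) : ℤ)) 0 (by push_cast; ring)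
    obtain ⟨z⟩ := tw_zero_iso K
    exact QCoh.subsingleton_HH_of_iso (e ≪≫ z) _ h2

variable {T' : Scheme.{u}} (φ : T' ⟶ T)

theorem flf_kernel_counit [IsLocallyNoetherian T] {G : (KRR.PY n T).Modules} (hG : FlatMod.IsFinLocFree G)
    (hR : KRR.IsRegSheaf n T G) :
    FlatMod.IsFinLocFree (kernel ((Scheme.Modules.pullbackPushforwardAdjunction (KRR.pr n T)).counit.app G)) := by
  haveI := epi_counit (QCoh.isQCoh_of_isFinLocFree hG) hR
  exact KFlatLib.isFinLocFree_kernel _ (KFlatLib.isFinLocFree_pullback _ (isFinLocFree_push hG hR)) hG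

/-- Vanishing of all cohomology of a bundle survives base change. -/
theorem subsingleton_HH_pullback_of_allZero [IsLocallyNoetherian T] {K : (KRR.PY n T).Modules}
    (hK : FlatMod.IsFinLocFree K) (h : AllZero K) {V : T.Opens} (hV : IsAffineOpen V) {V' : T'.Opens}
    (hV' : IsAffineOpen V') (hle : V' ≤ φ ⁻¹ᵁ V) (q : ℕ) :
    Subsingleton (Coh.HH (Proj (CohB1.polyGrading n Γ(T', V')))
      ((Scheme.Modules.pullback (jV n hV')).obj ((Scheme.Modules.pullback (KRR.projSpaceMap n φ)).obj K)) q) := by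
  haveI : IsNoetherianRing Γ(T, V) := IsLocallyNoetherian.component_noetherian ⟨V, hV⟩
  let c := (φ.appLE V V' hle).hom
  let g : Proj (CohB1.polyGrading n Γ(T', V')) ⟶ Proj (CohB1.polyGrading n Γ(T, V)) := PnBC.bcHom n c
  have hsq : IsPullback g (toP n Γ(T', V')) (toP n Γ(T, V)) (Spec.map (CommRingCat.ofHom c)) :=
    PnBC.isPullback_bcHom (n := n) c
  have hK' := KFlatLib.isFinLocFree_pullback (jV n hV) hK
  haveI : Flat (toP n Γ(T, V)) := flat_toP n _
  have h0 := subsingleton_HH_baseChange (toP n Γ(T, V)) (CurveDeg.isCoh_of_isFinLocFree hK')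
    (isFlatOver_of_flf (toP n Γ(T, V)) hK') c g (toP n Γ(T', V')) hsq q fun j _ => h V hV j
  let e := (Scheme.Modules.pullbackComp (jV n hV') (KRR.projSpaceMap n φ)).app K ≪≫
    (Scheme.Modules.pullbackCongr (jV_projSpaceMap φ hV hV' hle)).app K ≪≫
    ((Scheme.Modules.pullbackComp (PnBC.bcHom n c) (jV n hV)).app K).symm
  exact QCoh.subsingleton_HH_of_iso e.symm q h0

/-- A module on `ℙⁿ_T` whose cohomology vanishes over a cover has no direct image. -/
theorem isZero_push_of_cover {K : (KRR.PY n T).Modules} (hK : Coh.IsQCoh K)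
    (h : ∀ t : T, ∃ (V : T.Opens) (hV : IsAffineOpen V), t ∈ V ∧
      Subsingleton Γ((Scheme.Modules.pullback (jV n hV)).obj K, ⊤)) :
    IsZero ((Scheme.Modules.pushforward (KRR.pr n T)).obj K) := by
  refine KFlatLib.isZero_of_sections (QCoh.isQCoh_pushforward (KRR.pr n T) hK) fun t => ?_
  obtain ⟨V, hV, htV, hs⟩ := h t
  refine ⟨V, htV, hV, ?_⟩
  let e := Scheme.Modules.restrictFunctorIsoPullback (jV n hV)
  have hb : Function.Injective ((e.hom.app K).app ⊤) := (ConcreteCategory.bijective_of_isIso ((e.hom.app K).app ⊤)).1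
  have h0 : ∀ z : Γ(K, jV n hV ''ᵁ ⊤), z = 0 := fun z =>
    hb ((Subsingleton.elim _ (0 : Γ((Scheme.Modules.pullback (jV n hV)).obj K, ⊤))).trans (map_zero _).symm)
  rw [image_top_jV hV] at h0
  exact subsingleton_of_forall_eq 0 h0

/-- Higher cohomology on an affine cover suffices for surjectivity of direct images. -/
theorem epi_push_of_cover {S : ShortComplex (KRR.PY n T).Modules} (hS : S.ShortExact) (h₁ : Coh.IsQCoh S.X₁)
    (h : ∀ t : T, ∃ (V : T.Opens) (hV : IsAffineOpen V), t ∈ V ∧
      Subsingleton (Coh.HH (Proj (CohB1.polyGrading n Γ(T, V))) ((Scheme.Modules.pullback (jV n hV)).obj S.X₁) 1)) :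
    Epi ((Scheme.Modules.pushforward (KRR.pr n T)).map S.g) := by
  have hz : IsZero ((Coh.RpushAb (KRR.pr n T) 1).obj (Coh.toAb S.X₁)) :=
    isZero_RpushAb_of_cover (KRR.pr n T) h₁ 0 fun t => by
      obtain ⟨V, hV, htV, hs⟩ := h t
      haveI : IsAffine (V : Scheme.{u}) := hV
      obtain ⟨e⟩ := eV_push n hV (G := S.X₁)
      exact ⟨V, htV, hV, QCoh.subsingleton_HH_of_iso e _
        ((subsingleton_HH_push_iff (eV n hV) (KRR.pr n T ∣_ V) (QCoh.isQCoh_pullback (jV n hV) h₁) 1).1 hs)⟩
  refine epi_of_affine_surjective _ fun V hV => ?_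
  exact surjective_app_of_pullback_map (jV n hV) S.g (image_top_jV hV)
    (QCoh.app_top_surjective_of_HH_one (shortExact_pullback_jV hV hS) ((isZero_rpush_iff n h₁ 0).1 hz V hV))

/-- Direct images of short exact sequences: exact when the first term has no `R¹`. -/
theorem shortExact_push_of_cover {S : ShortComplex (KRR.PY n T).Modules} (hS : S.ShortExact) (h₁ : Coh.IsQCoh S.X₁)
    (h : ∀ t : T, ∃ (V : T.Opens) (hV : IsAffineOpen V), t ∈ V ∧
      Subsingleton (Coh.HH (Proj (CohB1.polyGrading n Γ(T, V))) ((Scheme.Modules.pullback (jV n hV)).obj S.X₁) 1)) :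
    (S.map (Scheme.Modules.pushforward (KRR.pr n T))).ShortExact := by
  haveI := QCoh.preservesFiniteLimits_push (KRR.pr n T)
  haveI := epi_push_of_cover hS h₁ h
  haveI : Mono (S.map (Scheme.Modules.pushforward (KRR.pr n T))).f :=
    haveI := hS.mono_f
    inferInstanceAs (Mono ((Scheme.Modules.pushforward (KRR.pr n T)).map S.f))
  exact { exact := ShortComplex.Exact.map_of_mono_of_preservesKernel hS.exact
            (Scheme.Modules.pushforward (KRR.pr n T)) hS.mono_f inferInstance,
          mono_f := inferInstance, epi_g := ‹_› }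

theorem isIso_of_mono_epi_zero {C : Type*} [Category C] [Abelian C] {S : ShortComplex C} (hS : S.ShortExact)
    (h : IsZero S.X₁) : IsIso S.g := by
  haveI := hS.epi_g
  haveI : Mono S.g := hS.exact.mono_g (h.eq_of_src _ _)
  exact isIso_of_mono_of_epi _

/-- Base change for regular bundles. -/
theorem isIso_bcMap [IsLocallyNoetherian T] (hsq : KRR.projSpaceMap n φ ≫ KRR.pr n T = KRR.pr n T' ≫ φ)
    {G : (KRR.PY n T).Modules} (hG : FlatMod.IsFinLocFree G) (hR : KRR.IsRegSheaf n T G) :
    IsIso (KRR.bcMap n φ hsq G) := by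
  have hGq := QCoh.isQCoh_of_isFinLocFree hG
  let ε := (Scheme.Modules.pullbackPushforwardAdjunction (KRR.pr n T)).counit.app G
  haveI : Epi ε := epi_counit hGq hR
  have hS : (ShortComplex.mk (kernel.ι ε) ε (kernel.condition ε)).ShortExact :=
    { exact := ShortComplex.exact_kernel ε }
  let P := Scheme.Modules.pullback (KRR.projSpaceMap n φ)
  haveI : P.Additive := (Scheme.Modules.pullbackPushforwardAdjunction _).left_adjoint_additive
  have hK := flf_kernel_counit hG hR
  have hPS : ((ShortComplex.mk (kernel.ι ε) ε (kernel.condition ε)).map P).ShortExact :=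
    shortExact_pullback _ hS hG
  have hPK : Coh.IsQCoh (P.obj (kernel ε)) := QCoh.isQCoh_of_isFinLocFree (KFlatLib.isFinLocFree_pullback _ hK)
  have hcov : ∀ q, ∀ t : T', ∃ (V : T'.Opens) (hV : IsAffineOpen V), t ∈ V ∧
      Subsingleton (Coh.HH (Proj (CohB1.polyGrading n Γ(T', V))) ((Scheme.Modules.pullback (jV n hV)).obj (P.obj (kernel ε))) q) := by
    intro q t
    obtain ⟨_, ⟨V, hV, rfl⟩, htV, -⟩ :=
      T.isBasis_affineOpens.exists_subset_of_mem_open (Set.mem_univ (φ t)) isOpen_univ
    obtain ⟨_, ⟨V', hV', rfl⟩, htV', hle⟩ :=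
      T'.isBasis_affineOpens.exists_subset_of_mem_open (show t ∈ ((φ ⁻¹ᵁ V : T'.Opens) : Set T') from htV) (φ ⁻¹ᵁ V).2
    exact ⟨V', hV', htV', subsingleton_HH_pullback_of_allZero φ hK (allZero_kernel_counit hGq hR) hV hV' hle q⟩
  have hpush := shortExact_push_of_cover hPS hPK (hcov 1)
  have hz := isZero_push_of_cover hPK fun t => by
    obtain ⟨V, hV, htV, h⟩ := hcov 0 t
    exact ⟨V, hV, htV, (subsingleton_HH_zero _).1 h⟩
  haveI : IsIso ((Scheme.Modules.pushforward (KRR.pr n T')).map (P.map ε)) := isIso_of_mono_epi_zero hpush hz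
  haveI := isIso_unit_pr (n := n) (T := T') (N := (Scheme.Modules.pullback φ).obj ((Scheme.Modules.pushforward (KRR.pr n T)).obj G))
    (QCoh.isQCoh_pullback φ (QCoh.isQCoh_pushforward (KRR.pr n T) hGq))
  rw [KRR.bcMap, Adjunction.homEquiv_unit]
  simp only [Functor.map_comp]
  infer_instance

end Groth.Agent.KRRLib.CM
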