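import Groth.Agent.KRRLib.CM.RegKernel
import Groth.Agent.KRRLib.CM.BaseChangeVanish
import Groth.Agent.KRRLib.CM.PushFree
import Groth.Agent.PnCoh.Finite.SerreVanishing
import Groth.Agent.Lib.CurveDeg
import Groth.Agent.Lib.InvEnd
import Groth.Agent.S0844

/-!
# Regularity under base change, eventual regularity, direct images of regular bundles
-/

set_option autoImplicit false
set_option linter.style.haveILetI false
set_option linter.unusedSectionVars false
set_option backward.isDefEq.respectTransparency false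
set_option backward.isDefEq.respectTransparency.types false
set_option maxHeartbeats 1000000

universe u

open CategoryTheory CategoryTheory.Limits AlgebraicGeometry TopologicalSpace Opposite
open Groth.Agent.PnCoh.Finite

noncomputable section

namespace Groth.Agent.KRRLib.CM

open Groth.Agent Groth.Agent.PnCoh

/-- Locally free modules are flat over the base of a flat morphism. -/
theorem isFlatOver_of_flf {X S : Scheme.{u}} (π : X ⟶ S) [Flat π] {H : X.Modules} (hH : FlatMod.IsFinLocFree H) :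
    FlatMod.IsFlatOver π H := fun x => by
  show FlatMod.IsFlatOverAt π H x
  unfold FlatMod.IsFlatOverAt
  letI := FlatMod.moduleStalkOver π H x
  letI : Algebra (S.presheaf.stalk (π.base x)) (X.presheaf.stalk x) := (π.stalkMap x).hom.toAlgebra
  haveI : IsScalarTower (S.presheaf.stalk (π.base x)) (X.presheaf.stalk x) (H.presheaf.stalk x) :=
    IsScalarTower.of_algebraMap_smul fun _ _ => rfl
  haveI : Module.Flat (S.presheaf.stalk (π.base x)) (X.presheaf.stalk x) := Flat.stalkMap π x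
  haveI := QCoh.free_stalk_of_isFinLocFree hH x
  exact Module.Flat.trans _ (X.presheaf.stalk x) _

/-- Vanishing of higher direct images can be tested on an affine cover of the base. -/
theorem isZero_RpushAb_of_cover {X S : Scheme.{u}} (f : X ⟶ S) [QuasiCompact f] [QuasiSeparated f] {M : X.Modules}
    (hM : Coh.IsQCoh M) (q : ℕ)
    (h : ∀ s : S, ∃ V : S.Opens, s ∈ V ∧ IsAffineOpen V ∧ Subsingleton (Coh.HH _ (M.restrict (f ⁻¹ᵁ V).ι) (q + 1))) :
    IsZero ((Coh.RpushAb f (q + 1)).obj (Coh.toAb M)) := by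
  obtain ⟨e⟩ := QCoh.nonempty_RpushAb_iso f M q
  haveI : (QCoh.toAbFunctor S).Additive := inferInstance
  refine ((QCoh.toAbFunctor S).map_isZero ?_).of_iso e
  refine KFlatLib.isZero_of_sections (QCoh.locRange_rpushModel f hM q).isQCoh fun s => ?_
  obtain ⟨V, hsV, hV, hv⟩ := h s
  obtain ⟨l⟩ := nonempty_model_equiv f hM q hV
  exact ⟨V, hsV, hV, @Equiv.subsingleton _ _ l hv⟩

variable {n : ℕ}

instance isLocallyNoetherian_projSpace (A : Type u) [CommRing A] [IsNoetherianRing A] :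
    IsLocallyNoetherian (Proj (CohB1.polyGrading n A)) := by
  haveI : IsProper (toP n A) := PnCoh.Chow.isProper_toSpec n A
  exact LocallyOfFiniteType.isLocallyNoetherian (toP n A)

instance isProper_toP (A : Type u) [CommRing A] : IsProper (toP n A) := PnCoh.Chow.isProper_toSpec n A

theorem flf_tw {A : Type u} [CommRing A] {G : (Proj (CohB1.polyGrading n A)).Modules} (hG : FlatMod.IsFinLocFree G)
    (d : ℤ) : FlatMod.IsFinLocFree (ProjRegular.tw (𝒜 := CohB1.polyGrading n A) G d) :=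
  flf_tensor hG (flf_of_rank (InvEnd.isFinLocFreeOfRank_one
    (isInvertible_twist (coords n A) coords_mem coords_cover d)))

/-- Regularity survives base change of the coefficient ring. -/
theorem reg0_pullback_bcHom {A B : Type u} [CommRing A] [IsNoetherianRing A] [CommRing B] (c : A →+* B)
    {G : (Proj (CohB1.polyGrading n A)).Modules} (hG : FlatMod.IsFinLocFree G)
    (hR : ProjRegular.Reg0 (𝒜 := CohB1.polyGrading n A) G) :
    ProjRegular.Reg0 (𝒜 := CohB1.polyGrading n B)
      ((Scheme.Modules.pullback (show Proj (CohB1.polyGrading n B) ⟶ Proj (CohB1.polyGrading n A) from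
        PnBC.bcHom n c)).obj G) := by
  intro q hq
  let g : Proj (CohB1.polyGrading n B) ⟶ Proj (CohB1.polyGrading n A) := PnBC.bcHom n c
  have hsq : IsPullback g (toP n B) (toP n A) (Spec.map (CommRingCat.ofHom c)) := PnBC.isPullback_bcHom (n := n) c
  haveI : Flat (toP n A) := flat_toP n A
  have hT := flf_tw hG (-(q : ℤ))
  have h := subsingleton_HH_baseChange (toP n A) (CurveDeg.isCoh_of_isFinLocFree hT)
    (isFlatOver_of_flf (toP n A) hT) c g (toP n B) hsq q fun j hj => by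
      obtain ⟨e, rfl⟩ := Nat.exists_eq_add_of_le hj
      have h := ProjRegular.reg_add coords_mem coords_cover hR e (q + e) (by omega)
      rwa [show (e : ℤ) - ((q + e : ℕ) : ℤ) = -(q : ℤ) by push_cast; ring] at h
  obtain ⟨p⟩ := H23.PicMul.pull g G (Twist.twist (CohB1.polyGrading n A) (-(q : ℤ)))
  let t : (Scheme.Modules.pullback g).obj (Twist.twist (CohB1.polyGrading n A) (-(q : ℤ))) ≅
      Twist.twist (CohB1.polyGrading n B) (-(q : ℤ)) := PnBC.twistIso (n := n) c (-(q : ℤ))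
  exact QCoh.subsingleton_HH_of_iso (p ≪≫ (DCoh.tensorBi.obj _).mapIso t) q h

variable {T : Scheme.{u}}

/-- Regularity can be tested on an affine cover of the base. -/
theorem isRegSheaf_of_cover {G : (KRR.PY n T).Modules} (hG : Coh.IsQCoh G)
    (h : ∀ t : T, ∃ (V : T.Opens) (hV : IsAffineOpen V), t ∈ V ∧
      ProjRegular.Reg0 (𝒜 := CohB1.polyGrading n Γ(T, V)) ((Scheme.Modules.pullback (jV n hV)).obj G)) :
    KRR.IsRegSheaf n T G := by
  intro q hq
  obtain ⟨p, rfl⟩ := Nat.exists_eq_add_of_le' hq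
  refine isZero_RpushAb_of_cover (KRR.pr n T) (isQCoh_twF n _ hG) p fun t => ?_
  obtain ⟨V, hV, htV, hR⟩ := h t
  refine ⟨V, htV, hV, ?_⟩
  haveI : IsAffine (V : Scheme.{u}) := hV
  obtain ⟨e⟩ := eV_push n hV (G := KRR.twF n T (-((p + 1 : ℕ) : ℤ)) G)
  obtain ⟨e'⟩ := nonempty_pullback_twF n hV (-((p + 1 : ℕ) : ℤ)) G
  have h1 := QCoh.subsingleton_HH_of_iso e'.symm _ (hR (p + 1) hq)
  exact QCoh.subsingleton_HH_of_iso e _
    ((subsingleton_HH_push_iff (eV n hV) (KRR.pr n T ∣_ V)
      (QCoh.isQCoh_pullback (jV n hV) (isQCoh_twF n _ hG)) (p + 1)).1 h1)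

theorem bcHom_comp {R A B : Type u} [CommRing R] [CommRing A] [CommRing B] (c : R →+* A) (d : A →+* B) :
    PnBC.bcHom n d ≫ PnBC.bcHom n c = PnBC.bcHom n (d.comp c) := by
  refine (PnBC.chartCover n B).openCover.hom_ext _ _ fun i => ?_
  show Proj.awayι (CohB1.polyGrading n B) (MvPolynomial.X i.down) (PnBC.X_mem_one n B i.down) Nat.one_pos ≫ _ =
    Proj.awayι (CohB1.polyGrading n B) (MvPolynomial.X i.down) (PnBC.X_mem_one n B i.down) Nat.one_pos ≫ _
  rw [← Category.assoc, PnBC.awayι_bcHom, Category.assoc, PnBC.awayι_bcHom, PnBC.awayι_bcHom, ← Category.assoc,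
    ← Spec.map_comp, ← CommRingCat.ofHom_comp]
  congr 3
  refine PnBC.chart_hom_ext i.down ?_ fun j => ?_
  · simp only [PnBC.chartMap, RingHom.comp_assoc, PnBC.evalChart_base]
    rw [← RingHom.comp_assoc, PnBC.evalChart_base]
    rfl
  · simp [PnBC.chartMap, PnBC.evalChart_coord]

variable {T' : Scheme.{u}} (φ : T' ⟶ T)

theorem projSpaceMap_fst : KRR.projSpaceMap n φ ≫ pullback.fst _ _ =
    pullback.fst (CohB1.ProjSpace.toSpec n (ULift.{u} ℤ)) (specULiftZIsTerminal.from T') :=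
  (pullback.lift_fst _ _ _).trans (Category.comp_id _)

theorem projSpaceMap_pr : KRR.projSpaceMap n φ ≫ KRR.pr n T = KRR.pr n T' ≫ φ :=
  pullback.lift_snd _ _ _

theorem jV_projSpaceMap {V : T.Opens} (hV : IsAffineOpen V) {V' : T'.Opens} (hV' : IsAffineOpen V')
    (h : V' ≤ φ ⁻¹ᵁ V) :
    jV n hV' ≫ KRR.projSpaceMap n φ = PnBC.bcHom n (φ.appLE V V' h).hom ≫ jV n hV := by
  refine pullback.hom_ext ?_ ?_
  · rw [Category.assoc, projSpaceMap_fst, jV_fst, Category.assoc, jV_fst, bcHom_comp]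
    exact congrArg (PnBC.bcHom n) ((RingHom.cancel_right (f := (ULift.ringEquiv.{0, u} (R := ℤ)).symm.toRingHom)
      ULift.ringEquiv.symm.surjective).1 (RingHom.ext_int _ _))
  · rw [Category.assoc, Category.assoc]
    show jV n hV' ≫ KRR.projSpaceMap n φ ≫ KRR.pr n T = PnBC.bcHom n _ ≫ jV n hV ≫ KRR.pr n T
    rw [projSpaceMap_pr, jV_pr, ← Category.assoc, jV_pr, Category.assoc, ← Category.assoc (PnBC.bcHom n _),
      PnBC.bcHom_toSpec, Category.assoc, ← IsAffineOpen.SpecMap_appLE_fromSpec φ hV hV' h]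
    rfl

/-- Inverse images of regular bundles are regular. -/
theorem isRegSheaf_pullback [IsLocallyNoetherian T] {G : (KRR.PY n T).Modules} (hG : FlatMod.IsFinLocFree G)
    (hR : KRR.IsRegSheaf n T G) :
    KRR.IsRegSheaf n T' ((Scheme.Modules.pullback (KRR.projSpaceMap n φ)).obj G) := by
  have hGq := QCoh.isQCoh_of_isFinLocFree hG
  refine isRegSheaf_of_cover (QCoh.isQCoh_pullback _ hGq) fun t => ?_
  obtain ⟨_, ⟨V, hV, rfl⟩, htV, -⟩ :=
    T.isBasis_affineOpens.exists_subset_of_mem_open (Set.mem_univ (φ t)) isOpen_univ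
  obtain ⟨_, ⟨V', hV', rfl⟩, htV', hle⟩ :=
    T'.isBasis_affineOpens.exists_subset_of_mem_open (show t ∈ ((φ ⁻¹ᵁ V : T'.Opens) : Set T') from htV) (φ ⁻¹ᵁ V).2
  haveI : IsNoetherianRing Γ(T, V) := IsLocallyNoetherian.component_noetherian ⟨V, hV⟩
  refine ⟨V', hV', htV', ?_⟩
  have h1 := reg0_pullback_bcHom (n := n) (φ.appLE V V' hle).hom (KFlatLib.isFinLocFree_pullback (jV n hV) hG)
    ((isRegSheaf_iff n hGq).1 hR V hV)
  let e := (Scheme.Modules.pullbackComp (jV n hV') (KRR.projSpaceMap n φ)).app G ≪≫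
    (Scheme.Modules.pullbackCongr (jV_projSpaceMap φ hV hV' hle)).app G ≪≫
    ((Scheme.Modules.pullbackComp (PnBC.bcHom n (φ.appLE V V' hle).hom) (jV n hV)).app G).symm
  exact reg0_iso e.symm h1

/-- The direct image of a regular bundle is locally free. -/
theorem isFinLocFree_push [IsLocallyNoetherian T] {G : (KRR.PY n T).Modules} (hG : FlatMod.IsFinLocFree G)
    (hR : KRR.IsRegSheaf n T G) : FlatMod.IsFinLocFree ((Scheme.Modules.pushforward (KRR.pr n T)).obj G) := by
  haveI : IsLocallyNoetherian (KRR.PY n T) := LocallyOfFiniteType.isLocallyNoetherian (KRR.pr n T)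
  haveI : Flat (KRR.pr n T) := by
    haveI : Flat (CohB1.ProjSpace.toSpec n (ULift.{u} ℤ)) := PnBC.flat_toSpec n _
    exact MorphismProperty.pullback_snd _ _ inferInstance
  exact isFinLocFree_push_of_isZero (CurveDeg.isCoh_of_isFinLocFree hG) (isFlatOver_of_flf (KRR.pr n T) hG)
    fun q => isZero_rpush_of_isRegSheaf (QCoh.isQCoh_of_isFinLocFree hG) hR (q + 1) (Nat.succ_pos q)

/-- Over a noetherian ring, high twists of a coherent module are regular. -/
theorem exists_reg0_tw (A : Type u) [CommRing A] [IsNoetherianRing A]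
    {G : (Proj (CohB1.polyGrading n A)).Modules} (hG : Coh.IsCoh G) :
    ∃ m₀ : ℕ, ∀ m : ℕ, m₀ ≤ m →
      ProjRegular.Reg0 (𝒜 := CohB1.polyGrading n A) (ProjRegular.tw (𝒜 := CohB1.polyGrading n A) G (m : ℤ)) := by
  classical
  haveI : ∀ j, IsNoetherianRing Γ(Proj (CohB1.polyGrading n A), D (CohB1.polyGrading n A) (coords n A j)) :=
    fun j => IsLocallyNoetherian.component_noetherian ⟨_, isAffineOpen_D coords_mem j⟩
  have h : ∀ i : ℕ, ∃ d₀ : ℤ, ∀ d, d₀ ≤ d → 0 < i →
      Subsingleton (Coh.HH (Proj (CohB1.polyGrading n A)) (ProjRegular.tw (𝒜 := CohB1.polyGrading n A) G d) i) := by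
    intro i
    rcases Nat.eq_zero_or_pos i with rfl | hi
    · exact ⟨0, fun d _ h => absurd h (lt_irrefl 0)⟩
    · obtain ⟨d₀, hd₀⟩ := exists_vanishing coords_mem coords_cover (fun j => inferInstance) (n + 1)
        (fun M hM i hi => subsingleton_HH_high n A hM i (by omega))
        (fun i hi => ⟨0, fun d hd => S0844.result A n d i (fun h => by omega) (fun h => by omega)⟩)
        G (good_of_isCoh coords_mem hG) i hi
      exact ⟨d₀, fun d hd _ => hd₀ d hd⟩
  choose d₀ hd₀ using h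
  refine ⟨∑ i ∈ Finset.range (n + 1), (d₀ i + (i : ℤ)).natAbs, fun m hm => (reg0_tw_iff G (m : ℤ)).2 fun q hq => ?_⟩
  by_cases hqn : q ≤ n
  · refine hd₀ q _ ?_ hq
    have h1 : (d₀ q + (q : ℤ)).natAbs ≤ ∑ i ∈ Finset.range (n + 1), (d₀ i + (i : ℤ)).natAbs :=
      Finset.single_le_sum (f := fun i => (d₀ i + (i : ℤ)).natAbs) (fun _ _ => Nat.zero_le _) (Finset.mem_range.2 (by omega))
    omega
  · exact subsingleton_HH_high n A (isQCoh_tw n A hG.1 _) q (by omega)

/-- High twists of a bundle are regular. -/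
theorem exists_isRegSheaf_twF [IsLocallyNoetherian T] [CompactSpace T] {G : (KRR.PY n T).Modules}
    (hG : FlatMod.IsFinLocFree G) : ∃ m₀ : ℕ, ∀ m : ℕ, m₀ ≤ m → KRR.IsRegSheaf n T (KRR.twF n T (m : ℤ) G) := by
  classical
  have hGq := QCoh.isQCoh_of_isFinLocFree hG
  have hloc : ∀ V : T.affineOpens, ∃ m₀ : ℕ, ∀ m : ℕ, m₀ ≤ m →
      ProjRegular.Reg0 (𝒜 := CohB1.polyGrading n Γ(T, V.1))
        (ProjRegular.tw (𝒜 := CohB1.polyGrading n Γ(T, V.1)) ((Scheme.Modules.pullback (jV n V.2)).obj G) (m : ℤ)) := by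
    intro V
    haveI : IsNoetherianRing Γ(T, V.1) := IsLocallyNoetherian.component_noetherian V
    exact exists_reg0_tw Γ(T, V.1) (CurveDeg.isCoh_of_isFinLocFree (KFlatLib.isFinLocFree_pullback (jV n V.2) hG))
  choose m₀ hm₀ using hloc
  obtain ⟨s, hs⟩ := isCompact_univ.elim_finite_subcover (fun V : T.affineOpens => (V.1 : Set T)) (fun V => V.1.2)
    fun t _ => by
      obtain ⟨_, ⟨V, hV, rfl⟩, ht, -⟩ := T.isBasis_affineOpens.exists_subset_of_mem_open (Set.mem_univ t) isOpen_univ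
      exact Set.mem_iUnion.2 ⟨⟨V, hV⟩, ht⟩
  refine ⟨s.sup m₀, fun m hm => isRegSheaf_of_cover (isQCoh_twF n _ hGq) fun t => ?_⟩
  obtain ⟨V, hVs, htV⟩ := Set.mem_iUnion₂.1 (hs (Set.mem_univ t))
  obtain ⟨e⟩ := nonempty_pullback_twF n V.2 (m : ℤ) G
  exact ⟨V.1, V.2, htV, reg0_iso e.symm (hm₀ V m ((Finset.le_sup hVs).trans hm))⟩

end Groth.Agent.KRRLib.CM
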