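import Groth.Agent.KRRLib.CM.Euler
import Groth.Agent.KRRLib.CM.RegPull
import Groth.Agent.KRRLib.Calc

/-!
# `K₀` of regular bundles is `K₀` of all bundles
-/

set_option autoImplicit false
set_option linter.style.haveILetI false
set_option linter.unusedSectionVars false
set_option backward.isDefEq.respectTransparency false
set_option backward.isDefEq.respectTransparency.types false
set_option maxHeartbeats 1000000

universe w u

open CategoryTheory CategoryTheory.Limits AlgebraicGeometry TopologicalSpace Opposite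
open scoped ZeroObject

noncomputable section

namespace Groth.Agent.KRRLib.CM

open Groth.Agent

variable {n : ℕ} {T : Scheme.{u}}

theorem isRegSheaf_of_iso {G G' : (KRR.PY n T).Modules} (e : G ≅ G') (h : KRR.IsRegSheaf n T G) :
    KRR.IsRegSheaf n T G' := fun i hi =>
  (h i hi).of_iso ((Coh.RpushAb (KRR.pr n T) i).mapIso ((QCoh.toAbFunctor _).mapIso
    ((twFun n T (-(i : ℤ))).mapIso e.symm)))

theorem isRegSheaf_twF_one {G : (KRR.PY n T).Modules} (hG : Coh.IsQCoh G) (h : KRR.IsRegSheaf n T G) :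
    KRR.IsRegSheaf n T (KRR.twF n T 1 G) :=
  (isRegSheaf_twF_iff hG 1).2 fun V hV => reg0_tw_nat ((isRegSheaf_iff n hG).1 h V hV) 1

theorem isRegSheaf_X₃ {S : ShortComplex (KRR.PY n T).Modules} (hS : S.ShortExact) (h₁ : Coh.IsQCoh S.X₁)
    (h₂ : Coh.IsQCoh S.X₂) (h₃ : Coh.IsQCoh S.X₃) (hreg₂ : KRR.IsRegSheaf n T S.X₂)
    (hreg₁ : KRR.IsRegSheaf n T (KRR.twF n T 1 S.X₁)) : KRR.IsRegSheaf n T S.X₃ := by
  refine (isRegSheaf_iff n h₃).2 fun V hV => ?_
  have a := shortExact_pullback_jV (n := n) hV hS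
  have b := (isRegSheaf_iff n h₂).1 hreg₂ V hV
  have c := (isRegSheaf_twF_iff h₁ 1).1 hreg₁ V hV
  have d := reg0_X₃ a b c
  exact d

theorem isRegSheaf_biproduct {J : Type} [Finite J] (M : J → (KRR.PY n T).Modules) [HasBiproduct M]
    (h : ∀ j, KRR.IsRegSheaf n T (M j)) : KRR.IsRegSheaf n T (⨁ M) := by
  intro i hi
  let F : (KRR.PY n T).Modules ⥤ TopCat.Sheaf AddCommGrpCat.{u} T :=
    twFun n T (-(i : ℤ)) ⋙ QCoh.toAbFunctor _ ⋙ Coh.RpushAb (KRR.pr n T) i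
  haveI : (Coh.RpushAb (KRR.pr n T) i).Additive := by
    unfold Coh.RpushAb
    infer_instance
  haveI : F.Additive := inferInstance
  haveI := Abelian.hasFiniteBiproducts (C := TopCat.Sheaf AddCommGrpCat.{u} T)
  have hz : IsZero (⨁ fun j => F.obj (M j)) :=
    (IsZero.iff_id_eq_zero _).2 (biproduct.hom_ext _ _ fun j => (h j i hi).eq_of_tgt _ _)
  exact hz.of_iso (F.mapBiproduct M)

/-- `G` is a bundle whose `m`-th twist is regular. -/
def Idx (m : ℕ) (G : (KRR.PY n T).Modules) : Prop :=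
  FlatMod.IsFinLocFree G ∧ KRR.IsRegSheaf n T (KRR.twF n T (m : ℤ) G)

/-- The predicate cutting out regular bundles. -/
abbrev regP (n : ℕ) (T : Scheme.{u}) : ObjectProperty (KRR.PY n T).Modules :=
  fun M => FlatMod.IsFinLocFree M ∧ KRR.IsRegSheaf n T M

theorem idx_zero_iff {G : (KRR.PY n T).Modules} : Idx 0 G ↔ regP n T G := by
  obtain ⟨e⟩ := twF_zero_iso G
  exact ⟨fun h => ⟨h.1, isRegSheaf_of_iso e h.2⟩, fun h => ⟨h.1, isRegSheaf_of_iso e.symm h.2⟩⟩

theorem Idx.succ {m : ℕ} {G : (KRR.PY n T).Modules} (h : Idx m G) : Idx (m + 1) G := by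
  obtain ⟨e⟩ := twF_twF_iso (n := n) (T := T) 1 (m : ℤ) ((m + 1 : ℕ) : ℤ) (by push_cast; ring) G
  exact ⟨h.1, isRegSheaf_of_iso e (isRegSheaf_twF_one (isQCoh_twF n _ (QCoh.isQCoh_of_isFinLocFree h.1)) h.2)⟩

theorem Idx.mono {m m' : ℕ} {G : (KRR.PY n T).Modules} (h : Idx m G) (hm : m ≤ m') : Idx m' G := by
  induction hm with
  | refl => exact h
  | step _ ih => exact ih.succ

theorem Idx.of_iso {m : ℕ} {G G' : (KRR.PY n T).Modules} (h : Idx m G) (e : G ≅ G') : Idx m G' :=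
  ⟨flf_iso e h.1, isRegSheaf_of_iso ((twFun n T (m : ℤ)).mapIso e) h.2⟩

theorem regP_zero : regP n T (0 : (KRR.PY n T).Modules) :=
  ⟨flf_zero _, fun i _ => by
    haveI : (Coh.RpushAb (KRR.pr n T) i).Additive := by unfold Coh.RpushAb; infer_instance
    exact (Coh.RpushAb (KRR.pr n T) i).map_isZero ((QCoh.toAbFunctor _).map_isZero
      ((twFun n T (-(i : ℤ))).map_isZero (isZero_zero _)))⟩

variable (n T) in
/-- The chosen Euler sequence. -/
def euler : ShortComplex (KRR.PY n T).Modules := (exists_euler n T).choose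

/-- The middle term, tensored. -/
def eA (G : (KRR.PY n T).Modules) : (KRR.PY n T).Modules := (DCoh.tensorBi.obj (euler n T).X₂).obj G

/-- The last term, tensored. -/
def eB (G : (KRR.PY n T).Modules) : (KRR.PY n T).Modules := (DCoh.tensorBi.obj (euler n T).X₃).obj G

theorem exists_euler_tensor {G : (KRR.PY n T).Modules} (hG : FlatMod.IsFinLocFree G) :
    ∃ S : ShortComplex (KRR.PY n T).Modules, S.ShortExact ∧ Nonempty (S.X₁ ≅ G) ∧ S.X₂ = eA G ∧ S.X₃ = eB G := by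
  obtain ⟨hS, ⟨e₁⟩, -⟩ := (exists_euler n T).choose_spec
  obtain ⟨c⟩ := H23.PicMul.comm (Coh.structureModule (KRR.PY n T)) G
  let c' : (DCoh.tensorBi.obj (Coh.structureModule (KRR.PY n T))).obj G ≅
      (DCoh.tensorBi.obj G).obj (Coh.structureModule (KRR.PY n T)) := c
  exact ⟨(euler n T).map (DCoh.tensorBi.flip.obj G), shortExact_tensorRight hG hS,
    ⟨(DCoh.tensorBi.flip.obj G).mapIso e₁ ≪≫ c' ≪≫ KFlatLib.tensorUnitIso G⟩, rfl, rfl⟩

theorem flf_eA {G : (KRR.PY n T).Modules} (hG : FlatMod.IsFinLocFree G) : FlatMod.IsFinLocFree (eA G) :=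
  flf_tensor (exists_euler n T).choose_spec.2.2.1 hG

theorem flf_eB {G : (KRR.PY n T).Modules} (hG : FlatMod.IsFinLocFree G) : FlatMod.IsFinLocFree (eB G) :=
  flf_tensor (exists_euler n T).choose_spec.2.2.2.1 hG

theorem idx_eA {m : ℕ} {G : (KRR.PY n T).Modules} (h : Idx (m + 1) G) : Idx m (eA G) := by
  haveI := Abelian.hasFiniteBiproducts (C := (KRR.PY n T).Modules)
  refine ⟨flf_eA h.1, ?_⟩
  obtain ⟨e⟩ := (exists_euler n T).choose_spec.2.2.2.2
  obtain ⟨t⟩ := twF_twF_iso (n := n) (T := T) (m : ℤ) 1 ((m + 1 : ℕ) : ℤ) (by push_cast; ring) G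
  haveI : (DCoh.tensorBi.flip.obj G).Additive := inferInstance
  let e' : eA G ≅ ⨁ fun _ : Fin (n + 1) => KRR.twF n T 1 G :=
    (DCoh.tensorBi.flip.obj G).mapIso e ≪≫
      (DCoh.tensorBi.flip.obj G).mapBiproduct fun _ : Fin (n + 1) => Twist.twistOver n T 1
  exact isRegSheaf_of_iso ((twFun n T (m : ℤ)).mapIso e' ≪≫
      (twFun n T (m : ℤ)).mapBiproduct (fun _ : Fin (n + 1) => KRR.twF n T 1 G)).symm
    (isRegSheaf_biproduct _ fun _ => isRegSheaf_of_iso t.symm h.2)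

theorem idx_eB {m : ℕ} {G : (KRR.PY n T).Modules} (h : Idx (m + 1) G) : Idx m (eB G) := by
  refine ⟨flf_eB h.1, ?_⟩
  obtain ⟨S, hS, ⟨e₁⟩, h₂, h₃⟩ := exists_euler_tensor h.1
  have hS' : (S.map (twFun n T (m : ℤ))).ShortExact :=
    CurveTensor.shortExact_tensor (flf_twistOver (n := n) (T := T) (m : ℤ)) _ _ _ hS
  have q₁ : Coh.IsQCoh S.X₁ := QCoh.isQCoh_of_isFinLocFree (flf_iso e₁.symm h.1)
  have q₂ : Coh.IsQCoh S.X₂ := h₂ ▸ QCoh.isQCoh_of_isFinLocFree (flf_eA h.1)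
  have q₃ : Coh.IsQCoh S.X₃ := h₃ ▸ QCoh.isQCoh_of_isFinLocFree (flf_eB h.1)
  have r₂ : KRR.IsRegSheaf n T (KRR.twF n T (m : ℤ) S.X₂) := h₂ ▸ (idx_eA h).2
  obtain ⟨t⟩ := twF_twF_iso (n := n) (T := T) 1 (m : ℤ) ((m + 1 : ℕ) : ℤ) (by push_cast; ring) S.X₁
  have r₁ : KRR.IsRegSheaf n T (KRR.twF n T 1 (KRR.twF n T (m : ℤ) S.X₁)) :=
    isRegSheaf_of_iso t.symm (isRegSheaf_of_iso ((twFun n T ((m + 1 : ℕ) : ℤ)).mapIso e₁.symm) h.2)
  have r₃ := isRegSheaf_X₃ hS' (isQCoh_twF n _ q₁) (isQCoh_twF n _ q₂) (isQCoh_twF n _ q₃) r₂ r₁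
  rw [← h₃]
  exact r₃

/-- Regular classes of twisted bundles. -/
def psi : ℕ → (KRR.PY n T).Modules → KZero.K0sub (regP n T)
  | 0, G => KZero.clSub (regP n T) G
  | m + 1, G => psi m (eA G) - psi m (eB G)

theorem psi_ses : ∀ (m : ℕ) {S : ShortComplex (KRR.PY n T).Modules}, S.ShortExact →
    Idx m S.X₁ → Idx m S.X₂ → Idx m S.X₃ → psi m S.X₂ = psi m S.X₁ + psi m S.X₃
  | 0, S, hS, h₁, h₂, h₃ => KZ.clSub_ses (regP n T) hS (idx_zero_iff.1 h₁) (idx_zero_iff.1 h₂) (idx_zero_iff.1 h₃)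
  | m + 1, S, hS, h₁, h₂, h₃ => by
    have hA : (S.map (DCoh.tensorBi.obj (euler n T).X₂)).ShortExact :=
      CurveTensor.shortExact_tensor (exists_euler n T).choose_spec.2.2.1 _ _ _ hS
    have hB : (S.map (DCoh.tensorBi.obj (euler n T).X₃)).ShortExact :=
      CurveTensor.shortExact_tensor (exists_euler n T).choose_spec.2.2.2.1 _ _ _ hS
    have a : psi m (eA S.X₂) = psi m (eA S.X₁) + psi m (eA S.X₃) :=
      psi_ses m hA (idx_eA h₁) (idx_eA h₂) (idx_eA h₃)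
    have b : psi m (eB S.X₂) = psi m (eB S.X₁) + psi m (eB S.X₃) :=
      psi_ses m hB (idx_eB h₁) (idx_eB h₂) (idx_eB h₃)
    show psi m (eA S.X₂) - psi m (eB S.X₂) =
      psi m (eA S.X₁) - psi m (eB S.X₁) + (psi m (eA S.X₃) - psi m (eB S.X₃))
    rw [a, b]
    abel

theorem psi_iso : ∀ (m : ℕ) {G G' : (KRR.PY n T).Modules} (_ : G ≅ G'), Idx m G → psi m G = psi m G'
  | 0, _, _, e, h => KZ.clSub_iso (regP n T) e (idx_zero_iff.1 h) (idx_zero_iff.1 (h.of_iso e)) (isZero_zero _) regP_zero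
  | m + 1, G, G', e, h => by
    show psi m (eA G) - psi m (eB G) = psi m (eA G') - psi m (eB G')
    rw [psi_iso m (show eA G ≅ eA G' from (DCoh.tensorBi.obj _).mapIso e) (idx_eA h),
      psi_iso m (show eB G ≅ eB G' from (DCoh.tensorBi.obj _).mapIso e) (idx_eB h)]

theorem psi_succ {m : ℕ} {G : (KRR.PY n T).Modules} (h : Idx m G) : psi (m + 1) G = psi m G := by
  obtain ⟨S, hS, ⟨e₁⟩, h₂, h₃⟩ := exists_euler_tensor h.1
  have k := psi_ses m hS (h.of_iso e₁.symm) (h₂ ▸ idx_eA h.succ) (h₃ ▸ idx_eB h.succ)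
  rw [h₂, h₃, psi_iso m e₁ (h.of_iso e₁.symm)] at k
  show psi m (eA G) - psi m (eB G) = psi m G
  rw [k]
  abel

theorem psi_mono {m m' : ℕ} {G : (KRR.PY n T).Modules} (h : Idx m G) (hm : m ≤ m') : psi m' G = psi m G := by
  induction hm with
  | refl => rfl
  | step hm' ih => rw [psi_succ (h.mono hm'), ih]

variable [IsLocallyNoetherian T] [CompactSpace T]

theorem exists_idx {G : (KRR.PY n T).Modules} (hG : FlatMod.IsFinLocFree G) : ∃ m, Idx m G := by
  obtain ⟨m, hm⟩ := exists_isRegSheaf_twF hG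
  exact ⟨m, hG, hm m le_rfl⟩

open Classical in
/-- The regular class of a bundle. -/
def regClass (G : (KRR.PY n T).Modules) : KZero.K0sub (regP n T) :=
  if h : ∃ m, Idx m G then psi h.choose G else 0

theorem regClass_eq {m : ℕ} {G : (KRR.PY n T).Modules} (h : Idx m G) : regClass G = psi m G := by
  classical
  have hex : ∃ m, Idx m G := ⟨m, h⟩
  rw [regClass, dif_pos hex, ← psi_mono hex.choose_spec (le_max_left _ m), ← psi_mono h (le_max_right hex.choose m)]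

theorem regClass_ses {S : ShortComplex (KRR.PY n T).Modules} (hS : S.ShortExact) (h₁ : FlatMod.IsFinLocFree S.X₁)
    (h₂ : FlatMod.IsFinLocFree S.X₂) (h₃ : FlatMod.IsFinLocFree S.X₃) :
    regClass S.X₂ = regClass S.X₁ + regClass S.X₃ := by
  obtain ⟨a, ha⟩ := exists_idx h₁
  obtain ⟨b, hb⟩ := exists_idx h₂
  obtain ⟨c, hc⟩ := exists_idx h₃
  have i₁ := ha.mono (show a ≤ max a (max b c) by omega)
  have i₂ := hb.mono (show b ≤ max a (max b c) by omega)
  have i₃ := hc.mono (show c ≤ max a (max b c) by omega)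
  rw [regClass_eq i₁, regClass_eq i₂, regClass_eq i₃, psi_ses _ hS i₁ i₂ i₃]

variable (n T) in
/-- The retraction to classes of regular bundles. -/
def toReg : SGA6.Kvb (KRR.PY n T) →+ KZero.K0sub (regP n T) :=
  (KZ.exists_liftSub (KRR.vbP (KRR.PY n T)) regClass fun _ hS h₁ h₂ h₃ => regClass_ses hS h₁ h₂ h₃).choose

theorem toReg_cl {G : (KRR.PY n T).Modules} (hG : FlatMod.IsFinLocFree G) :
    toReg n T (KRR.cl _ G) = regClass G :=
  (KZ.exists_liftSub (KRR.vbP (KRR.PY n T)) regClass fun _ hS h₁ h₂ h₃ => regClass_ses hS h₁ h₂ h₃).choose_spec G hG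

theorem map_psi (h : ∀ M, regP n T M → KRR.vbP (KRR.PY n T) M) : ∀ (m : ℕ) (G : (KRR.PY n T).Modules), Idx m G →
    SGA6.mapSub (𝟭 (KRR.PY n T).Modules) (regP n T) (KRR.vbP (KRR.PY n T)) h (psi m G) = KRR.cl _ G
  | 0, G, hG => by
    show SGA6.mapSub _ _ _ h (KZero.clSub (regP n T) G) = KRR.cl _ G
    rw [KZ.clSub_of_prop (regP n T) (idx_zero_iff.1 hG), KRR.cl, KZ.clSub_of_prop (KRR.vbP _) hG.1]
    rfl
  | m + 1, G, hG => by
    obtain ⟨S, hS, ⟨e₁⟩, h₂, h₃⟩ := exists_euler_tensor hG.1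
    have k := cl_ses hS (flf_iso e₁.symm hG.1) (h₂ ▸ flf_eA hG.1) (h₃ ▸ flf_eB hG.1)
    rw [h₂, h₃, cl_iso e₁ (flf_iso e₁.symm hG.1)] at k
    show SGA6.mapSub _ _ _ h (psi m (eA G) - psi m (eB G)) = KRR.cl _ G
    rw [map_sub, map_psi h m _ (idx_eA hG), map_psi h m _ (idx_eB hG), k]
    abel

/-- `K₀` of regular bundles maps isomorphically to `K₀` of bundles. -/
theorem bijective_mapSub (h : ∀ M, regP n T M → KRR.vbP (KRR.PY n T) M) :
    Function.Bijective (SGA6.mapSub (𝟭 (KRR.PY n T).Modules) (regP n T) (KRR.vbP (KRR.PY n T)) h) := by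
  refine Function.bijective_iff_has_inverse.2 ⟨toReg n T, fun x => ?_, fun y => ?_⟩
  · refine DFunLike.congr_fun (KZ.K0sub_hom_ext (regP n T)
      (f := (toReg n T).comp (SGA6.mapSub (𝟭 _) (regP n T) (KRR.vbP _) h)) (g := AddMonoidHom.id _) fun G hG => ?_) x
    have h0 : Idx 0 G := idx_zero_iff.2 hG
    rw [AddMonoidHom.comp_apply, show KZero.clSub (regP n T) G = psi 0 G from rfl, map_psi h 0 G h0,
      toReg_cl hG.1, regClass_eq h0, AddMonoidHom.id_apply]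
  · refine DFunLike.congr_fun (KZ.K0sub_hom_ext (KRR.vbP (KRR.PY n T))
      (f := (SGA6.mapSub (𝟭 _) (regP n T) (KRR.vbP _) h).comp (toReg n T)) (g := AddMonoidHom.id _) fun G hG => ?_) y
    obtain ⟨m, hm⟩ := exists_idx hG
    rw [AddMonoidHom.comp_apply, show KZero.clSub (KRR.vbP _) G = KRR.cl _ G from rfl, toReg_cl hG,
      regClass_eq hm, map_psi h m G hm, AddMonoidHom.id_apply]

/-- Additive maps on `K₀` of bundles are determined by regular bundles. -/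
theorem kvb_hom_ext {H : Type w} [AddCommGroup H] {f g : SGA6.Kvb (KRR.PY n T) →+ H}
    (h : ∀ G, regP n T G → f (KRR.cl _ G) = g (KRR.cl _ G)) : f = g := by
  refine AddMonoidHom.ext fun x => ?_
  obtain ⟨y, rfl⟩ := (bijective_mapSub (n := n) (T := T) fun _ hM => hM.1).2 x
  refine DFunLike.congr_fun (KZ.K0sub_hom_ext (regP n T)
    (f := f.comp (SGA6.mapSub (𝟭 _) _ _ fun _ hM => hM.1)) (g := g.comp (SGA6.mapSub (𝟭 _) _ _ fun _ hM => hM.1))
    fun G hG => ?_) y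
  rw [AddMonoidHom.comp_apply, AddMonoidHom.comp_apply, show KZero.clSub (regP n T) G = psi 0 G from rfl,
    map_psi _ 0 G (idx_zero_iff.2 hG)]
  exact h G hG

/-- Additive functions of regular bundles extend to `K₀` of bundles. -/
theorem exists_kvb_lift {H : Type w} [AddCommGroup H] (Φ : (KRR.PY n T).Modules → H)
    (hΦ : ∀ S : ShortComplex (KRR.PY n T).Modules, S.ShortExact → regP n T S.X₁ → regP n T S.X₂ → regP n T S.X₃ →
      Φ S.X₂ = Φ S.X₁ + Φ S.X₃) :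
    ∃ f : SGA6.Kvb (KRR.PY n T) →+ H, ∀ G, regP n T G → f (KRR.cl _ G) = Φ G := by
  obtain ⟨f, hf⟩ := KZ.exists_liftSub (regP n T) Φ hΦ
  refine ⟨f.comp (toReg n T), fun G hG => ?_⟩
  rw [AddMonoidHom.comp_apply, toReg_cl hG.1, regClass_eq (idx_zero_iff.2 hG)]
  exact hf G hG

end Groth.Agent.KRRLib.CM
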