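import Groth.Agent.KRRLib.CM.RegLocal

/-!
# Modules pulled back from the base, and kernels of counits
-/

set_option autoImplicit false
set_option linter.style.haveILetI false
set_option linter.unusedSectionVars false
set_option backward.isDefEq.respectTransparency false
set_option backward.isDefEq.respectTransparency.types false
set_option maxHeartbeats 1000000

universe u

open CategoryTheory CategoryTheory.Limits AlgebraicGeometry TopologicalSpace Opposite

noncomputable section

namespace Groth.Agent.KRRLib.CM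

open Groth.Agent Groth.Agent.PnCoh

variable {n : ℕ} {T : Scheme.{u}}

theorem nonempty_pullback_jV_pr {V : T.Opens} (hV : IsAffineOpen V) (N : T.Modules) :
    Nonempty ((Scheme.Modules.pullback (jV n hV)).obj ((Scheme.Modules.pullback (KRR.pr n T)).obj N) ≅
      (Scheme.Modules.pullback (toP n Γ(T, V))).obj ((Scheme.Modules.pullback hV.fromSpec).obj N)) :=
  ⟨(Scheme.Modules.pullbackComp (jV n hV) (KRR.pr n T)).app N ≪≫
    (Scheme.Modules.pullbackCongr (show jV n hV ≫ KRR.pr n T = toP n Γ(T, V) ≫ hV.fromSpec from jV_pr n hV)).app N ≪≫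
    ((Scheme.Modules.pullbackComp (toP n Γ(T, V)) hV.fromSpec).app N).symm⟩

theorem reg0_tw_congr {A : Type u} [CommRing A] {G G' : (Proj (CohB1.polyGrading n A)).Modules} (e : G ≅ G') (d : ℤ)
    (h : ProjRegular.Reg0 (𝒜 := CohB1.polyGrading n A) (ProjRegular.tw (𝒜 := CohB1.polyGrading n A) G d)) :
    ProjRegular.Reg0 (𝒜 := CohB1.polyGrading n A) (ProjRegular.tw (𝒜 := CohB1.polyGrading n A) G' d) :=
  reg0_iso ((DCoh.tensorBi.flip.obj _).mapIso e) h

theorem reg0_tw_pullback_toP {A : Type u} [CommRing A] {M : (Spec (CommRingCat.of A)).Modules}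
    (hM : Coh.IsQCoh M) (d : ℤ) (hd : 0 ≤ d) :
    ProjRegular.Reg0 (𝒜 := CohB1.polyGrading n A)
      (ProjRegular.tw (𝒜 := CohB1.polyGrading n A) ((Scheme.Modules.pullback (toP n A)).obj M) d) := by
  refine (reg0_tw_iff _ d).2 fun q hq => ?_
  by_cases hqn : q ≤ n
  · exact subsingleton_HH_tw_pullback n A _ (by omega) q hq hM
  · exact subsingleton_HH_high n A (isQCoh_tw n A (QCoh.isQCoh_pullback (toP n A) hM) _) q (by omega)

/-- Modules pulled back from the base, twisted by at least `0`, are regular. -/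
theorem isRegSheaf_twF_pullback {N : T.Modules} (hN : Coh.IsQCoh N) (d : ℤ) (hd : 0 ≤ d) :
    KRR.IsRegSheaf n T (KRR.twF n T d ((Scheme.Modules.pullback (KRR.pr n T)).obj N)) := by
  have h0 := isRegSheaf_twF_iff (n := n) (QCoh.isQCoh_pullback (KRR.pr n T) hN) d
  refine h0.2 fun V hV => ?_
  obtain ⟨e⟩ := nonempty_pullback_jV_pr (n := n) hV N
  have h1 := reg0_tw_pullback_toP (n := n) (A := Γ(T, V)) (M := (Scheme.Modules.pullback hV.fromSpec).obj N)
      (QCoh.isQCoh_pullback hV.fromSpec hN) d hd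
  have h2 := reg0_tw_congr e.symm d h1
  exact h2

/-- The kernel of the counit of a regular module is regular after twisting once. -/
theorem isRegSheaf_twF_kernel_counit {G : (KRR.PY n T).Modules} (hG : Coh.IsQCoh G)
    (hR : KRR.IsRegSheaf n T G) :
    KRR.IsRegSheaf n T (KRR.twF n T 1
      (kernel ((Scheme.Modules.pullbackPushforwardAdjunction (KRR.pr n T)).counit.app G))) := by
  let ε := (Scheme.Modules.pullbackPushforwardAdjunction (KRR.pr n T)).counit.app G
  haveI : Epi ε := epi_counit hG hR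
  have hN := QCoh.isQCoh_pushforward (KRR.pr n T) hG
  have hM := QCoh.isQCoh_pullback (KRR.pr n T) hN
  have hS : (ShortComplex.mk (kernel.ι ε) ε (kernel.condition ε)).ShortExact :=
    { exact := ShortComplex.exact_kernel ε }
  refine (isRegSheaf_twF_iff (QCoh.isQCoh_kernel hM hG ε) 1).2 fun V hV => ?_
  have h1 := shortExact_pullback_jV hV hS
  have h2 := (isRegSheaf_twF_iff hM 1).1 (isRegSheaf_twF_pullback hN 1 zero_le_one) V hV
  have h3 := (isRegSheaf_iff n hG).1 hR V hV
  have h4 := surjective_pullback_map_app_top (jV n hV) ε (image_top_jV hV) (surjective_counit_app G V)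
  have h5 := reg0_tw_X₁ h1 h2 h3 h4
  exact h5

/-- A regular module has no higher direct images. -/
theorem isZero_rpush_of_isRegSheaf {G : (KRR.PY n T).Modules} (hG : Coh.IsQCoh G)
    (hR : KRR.IsRegSheaf n T G) (i : ℕ) (hi : 1 ≤ i) :
    IsZero ((Coh.RpushAb (KRR.pr n T) i).obj (Coh.toAb G)) := by
  obtain ⟨p, rfl⟩ := Nat.exists_eq_add_of_le' hi
  exact (isZero_rpush_iff n hG p).2 fun V hV => subsingleton_HH_of_reg0 ((isRegSheaf_iff n hG).1 hR V hV) _ hi

end Groth.Agent.KRRLib.CM
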