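import Groth.Agent.KRRLib.CM.Bridge
import Groth.Agent.KRRLib.CM.ProjVanish
import Groth.Agent.Lib.CurveVanish
import Groth.Agent.QCoh.Support
import Groth.Agent.InvX.Pullback

/-!
# Regular modules on projective space over a ring, and over a base
-/

set_option autoImplicit false
set_option linter.style.haveILetI false
set_option linter.unusedSectionVars false
set_option backward.isDefEq.respectTransparency false
set_option backward.isDefEq.respectTransparency.types false
set_option maxHeartbeats 1000000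

universe u

open CategoryTheory CategoryTheory.Limits CategoryTheory.Abelian AlgebraicGeometry TopologicalSpace Opposite
open Groth.Agent.PnCoh.Finite

noncomputable section

namespace Groth.Agent.KRRLib.CM

open Groth.Agent Groth.Agent.PnCoh

section Proj

variable {n : ℕ} {A : Type u} [CommRing A]

local notation "P" => Proj (CohB1.polyGrading n A)

/-- Twisting twice. -/
theorem tw_tw_iso (G : (P).Modules) (a b c : ℤ) (h : c = a + b) :
    Nonempty (ProjRegular.tw (𝒜 := CohB1.polyGrading n A) (ProjRegular.tw (𝒜 := CohB1.polyGrading n A) G a) b ≅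
      ProjRegular.tw (𝒜 := CohB1.polyGrading n A) G c) := by
  subst h
  obtain ⟨e⟩ := twist_tensor_iso (coords n A) coords_mem coords_cover a b
  let e' : (DCoh.tensorBi.obj (Twist.twist (CohB1.polyGrading n A) a)).obj (Twist.twist (CohB1.polyGrading n A) b) ≅
      Twist.twist (CohB1.polyGrading n A) (a + b) := e
  exact ⟨(((KFlatLib.tensorAssocSch (P)).app G).app _).app _ ≪≫ (DCoh.tensorBi.obj G).mapIso e'⟩

/-- The zero twist. -/
theorem tw_zero_iso (G : (P).Modules) :
    Nonempty (ProjRegular.tw (𝒜 := CohB1.polyGrading n A) G 0 ≅ G) := by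
  haveI := isIso_oneHom (coords n A) coords_mem (coords_cover (n := n) (A := A))
  let e : Coh.structureModule (P) ≅ Twist.twist (CohB1.polyGrading n A) 0 :=
    @asIso _ _ _ _ _ (isIso_oneHom (coords n A) coords_mem coords_cover)
  exact ⟨(DCoh.tensorBi.obj G).mapIso e.symm ≪≫ KFlatLib.tensorUnitIso G⟩

theorem reg0_tw_iff (G : (P).Modules) (a : ℤ) :
    ProjRegular.Reg0 (𝒜 := CohB1.polyGrading n A) (ProjRegular.tw (𝒜 := CohB1.polyGrading n A) G a) ↔
      ∀ q : ℕ, 1 ≤ q → Subsingleton (Coh.HH (P) (ProjRegular.tw (𝒜 := CohB1.polyGrading n A) G (a - q)) q) := by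
  refine forall_congr' fun q => forall_congr' fun hq => ?_
  obtain ⟨e⟩ := tw_tw_iso G a (-(q : ℤ)) (a - q) (by omega)
  exact ⟨fun h => QCoh.subsingleton_HH_of_iso e _ h, fun h => QCoh.subsingleton_HH_of_iso e.symm _ h⟩

/-- Positive twists of regular modules are regular. -/
theorem reg0_tw_nat {G : (P).Modules} (hR : ProjRegular.Reg0 (𝒜 := CohB1.polyGrading n A) G) (m : ℕ) :
    ProjRegular.Reg0 (𝒜 := CohB1.polyGrading n A) (ProjRegular.tw (𝒜 := CohB1.polyGrading n A) G (m : ℤ)) :=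
  (reg0_tw_iff G m).2 (ProjRegular.reg_add coords_mem coords_cover hR m)

/-- Regular modules have no higher cohomology. -/
theorem subsingleton_HH_of_reg0 {G : (P).Modules} (hR : ProjRegular.Reg0 (𝒜 := CohB1.polyGrading n A) G)
    (q : ℕ) (hq : 1 ≤ q) : Subsingleton (Coh.HH (P) G q) := by
  obtain ⟨e⟩ := tw_zero_iso G
  have h := ProjRegular.reg_add coords_mem coords_cover hR q q hq
  rw [sub_self] at h
  exact QCoh.subsingleton_HH_of_iso e _ h

theorem subsingleton_HH_X₁_one {X : Scheme.{u}} {S : ShortComplex X.Modules} (hS : S.ShortExact)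
    (h₂ : Subsingleton (Coh.HH X S.X₂ 1)) (hsurj : Function.Surjective (S.g.app ⊤)) :
    Subsingleton (Coh.HH X S.X₁ 1) := by
  refine subsingleton_of_forall_eq 0 fun x => ?_
  have hT' := QCoh.toAb_shortExact hS
  obtain ⟨q, hq⟩ := Ext.covariant_sequence_exact₁ _ hT' x (h₂.elim _ _) (zero_add 1)
  obtain ⟨y, hy⟩ : ∃ y, Sheaf.H.map (S.map (QCoh.toAbFunctor X)).g 0 y = q := by
    obtain ⟨i₀, hi₀⟩ := hsurj (Sheaf.H.equiv₀ _ isTerminalTop q)
    refine ⟨(Sheaf.H.equiv₀ _ isTerminalTop).symm i₀, ?_⟩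
    rw [Sheaf.H.equiv₀_symm_naturality]
    exact (congrArg _ hi₀).trans (AddEquiv.symm_apply_apply _ _)
  rw [← hq, ← hy, Sheaf.H.map_apply]
  refine (Ext.comp_assoc_of_second_deg_zero y (Ext.mk₀ _) hT'.extClass _).trans ?_
  exact (congrArg (fun z => Ext.comp y z _) hT'.comp_extClass).trans (Ext.comp_zero _ _ _ _ _)

/-- Twisting preserves short exact sequences. -/
theorem shortExact_tw (d : ℤ) {S : ShortComplex (P).Modules} (hS : S.ShortExact) :
    (S.map (DCoh.tensorBi.flip.obj (Twist.twist (CohB1.polyGrading n A) d))).ShortExact :=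
  shortExact_twistBy (coords n A) coords_mem coords_cover d hS

theorem reg0_X₂ {S : ShortComplex (P).Modules} (hS : S.ShortExact)
    (h₁ : ProjRegular.Reg0 (𝒜 := CohB1.polyGrading n A) S.X₁)
    (h₃ : ProjRegular.Reg0 (𝒜 := CohB1.polyGrading n A) S.X₃) :
    ProjRegular.Reg0 (𝒜 := CohB1.polyGrading n A) S.X₂ := fun q hq =>
  QCoh.subsingleton_HH_X₂ (shortExact_tw (-(q : ℤ)) hS) q (h₁ q hq) (h₃ q hq)

theorem reg0_X₃ {S : ShortComplex (P).Modules} (hS : S.ShortExact)
    (h₂ : ProjRegular.Reg0 (𝒜 := CohB1.polyGrading n A) S.X₂)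
    (h₁ : ProjRegular.Reg0 (𝒜 := CohB1.polyGrading n A) (ProjRegular.tw (𝒜 := CohB1.polyGrading n A) S.X₁ 1)) :
    ProjRegular.Reg0 (𝒜 := CohB1.polyGrading n A) S.X₃ := fun q hq => by
  refine PnCoh.Finite.subsingleton_HH_X₃ (shortExact_tw (-(q : ℤ)) hS) q (h₂ q hq) ?_
  have h := (reg0_tw_iff S.X₁ 1).1 h₁ (q + 1) (by omega)
  rw [show (1 : ℤ) - ((q + 1 : ℕ) : ℤ) = -(q : ℤ) by push_cast; ring] at h
  exact h

theorem reg0_tw_X₁ {S : ShortComplex (P).Modules} (hS : S.ShortExact)
    (h₂ : ProjRegular.Reg0 (𝒜 := CohB1.polyGrading n A) (ProjRegular.tw (𝒜 := CohB1.polyGrading n A) S.X₂ 1))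
    (h₃ : ProjRegular.Reg0 (𝒜 := CohB1.polyGrading n A) S.X₃)
    (hsurj : Function.Surjective (S.g.app ⊤)) :
    ProjRegular.Reg0 (𝒜 := CohB1.polyGrading n A) (ProjRegular.tw (𝒜 := CohB1.polyGrading n A) S.X₁ 1) := by
  refine (reg0_tw_iff S.X₁ 1).2 fun q hq => ?_
  have h2 := (reg0_tw_iff S.X₂ 1).1 h₂ q hq
  obtain ⟨p, rfl⟩ := Nat.exists_eq_add_of_le' hq
  rcases Nat.eq_zero_or_pos p with rfl | hp
  · rw [show (1 : ℤ) - ((0 + 1 : ℕ) : ℤ) = 0 by norm_num] at h2 ⊢
    obtain ⟨e₂⟩ := tw_zero_iso S.X₂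
    obtain ⟨e₁⟩ := tw_zero_iso S.X₁
    exact QCoh.subsingleton_HH_of_iso e₁.symm _
      (subsingleton_HH_X₁_one hS (QCoh.subsingleton_HH_of_iso e₂ _ h2) hsurj)
  · have h3 := h₃ p hp
    rw [show (1 : ℤ) - ((p + 1 : ℕ) : ℤ) = -(p : ℤ) by push_cast; ring] at h2 ⊢
    exact CurveVanish.subsingleton_HH_X₁ (shortExact_tw (-(p : ℤ)) hS) p h2 h3

/-- A map onto a regular module is an epimorphism when it is onto on global sections. -/
theorem epi_of_app_top_surjective {M G : (P).Modules} (hG : Coh.IsQCoh G)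
    (hR : ProjRegular.Reg0 (𝒜 := CohB1.polyGrading n A) G) (φ : M ⟶ G)
    (hs : Function.Surjective (φ.app ⊤)) : Epi φ := by
  have hsurj : ∀ x : (P), Function.Surjective ((DerSch.stalkFunctor (P) x).map φ) := fun x m => by
    suffices h : (LinearMap.range ((KFlatLib.stalkP x).map φ.val).hom :
        Submodule ((P).presheaf.stalk x) _) = ⊤ by
      exact LinearMap.range_eq_top.1 h m
    rw [eq_top_iff, ← span_germ_top hG hR x]
    refine Submodule.span_le.2 ?_
    rintro _ ⟨t, rfl⟩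
    obtain ⟨s, rfl⟩ := hs t
    exact ⟨KFlatLib.germP (CohB1.toPMod M) ⊤ trivial s, KFlatLib.stalkModMap_germ _ ⊤ _ s⟩
  have hz : cokernel.π φ = 0 := by
    refine Scheme.Modules.hom_ext _ _ fun U => ?_
    ext s
    refine QCoh.eq_zero_of_locally U _ fun x hx => ?_
    obtain ⟨m, hm⟩ := hsurj x (G.presheaf.germ U x hx s)
    obtain ⟨W, hxW, w, hw⟩ := TopCat.Presheaf.germ_exist M.presheaf
      (show ToType (M.presheaf.stalk x) from m)
    have h' : G.presheaf.germ W x hxW (φ.app W w) = G.presheaf.germ U x hx s :=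
      (TopCat.Presheaf.stalkFunctor_map_germ_apply W x hxW φ.mapPresheaf w).symm.trans
        ((congrArg _ hw).trans hm)
    obtain ⟨V, hxV, i₁, i₂, hV⟩ := TopCat.Presheaf.germ_eq G.presheaf x hxW hx _ _ h'
    refine ⟨V, i₂, hxV, ?_⟩
    refine (ConcreteCategory.congr_hom ((cokernel.π φ).mapPresheaf.naturality i₂.op) s).symm.trans ?_
    show (cokernel.π φ).app V (G.presheaf.map i₂.op s) = 0
    rw [← hV]
    refine (ConcreteCategory.congr_hom ((cokernel.π φ).mapPresheaf.naturality i₁.op) (φ.app W w)).trans ?_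
    show (cokernel φ).presheaf.map i₁.op ((φ ≫ cokernel.π φ).app W w) = 0
    rw [cokernel.condition]
    exact map_zero _
  exact Abelian.epi_of_cokernel_π_eq_zero φ hz

end Proj

section Relative

variable {n : ℕ} {T : Scheme.{u}}

theorem isQCoh_pullback_jV {V : T.Opens} (hV : IsAffineOpen V) {G : (KRR.PY n T).Modules} (hG : Coh.IsQCoh G) :
    Coh.IsQCoh ((Scheme.Modules.pullback (jV n hV)).obj G) := QCoh.isQCoh_pullback (jV n hV) hG

theorem shortExact_pullback_jV {V : T.Opens} (hV : IsAffineOpen V) {S : ShortComplex (KRR.PY n T).Modules}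
    (hS : S.ShortExact) : (S.map (Scheme.Modules.pullback (jV n hV))).ShortExact :=
  shortExact_pullback_flat (jV n hV) hS

theorem reg0_iso {A : Type u} [CommRing A] {G G' : (Proj (CohB1.polyGrading n A)).Modules} (e : G ≅ G')
    (h : ProjRegular.Reg0 (𝒜 := CohB1.polyGrading n A) G) :
    ProjRegular.Reg0 (𝒜 := CohB1.polyGrading n A) G' := fun q hq =>
  QCoh.subsingleton_HH_of_iso ((DCoh.tensorBi.flip.obj _).mapIso e) q (h q hq)

/-- Regularity of a twist, over the affine opens. -/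
theorem isRegSheaf_twF_iff {G : (KRR.PY n T).Modules} (hG : Coh.IsQCoh G) (d : ℤ) :
    KRR.IsRegSheaf n T (KRR.twF n T d G) ↔ ∀ (V : T.Opens) (hV : IsAffineOpen V),
      ProjRegular.Reg0 (𝒜 := CohB1.polyGrading n Γ(T, V))
        (ProjRegular.tw (𝒜 := CohB1.polyGrading n Γ(T, V)) ((Scheme.Modules.pullback (jV n hV)).obj G) d) := by
  rw [isRegSheaf_iff n (isQCoh_twF n d hG)]
  refine forall_congr' fun V => forall_congr' fun hV => ?_
  obtain ⟨e⟩ := nonempty_pullback_twF n hV d G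
  exact ⟨fun h => reg0_iso e h, fun h => reg0_iso e.symm h⟩

/-- Surjectivity on global sections after pulling back along an open immersion. -/
theorem surjective_pullback_map_app_top {X Y : Scheme.{u}} (j : X ⟶ Y) [IsOpenImmersion j] {M N : Y.Modules}
    (φ : M ⟶ N) {W : Y.Opens} (hW : j ''ᵁ ⊤ = W) (hs : Function.Surjective (φ.app W)) :
    Function.Surjective (((Scheme.Modules.pullback j).map φ).app ⊤) := by
  subst hW
  let e := Scheme.Modules.restrictFunctorIsoPullback j
  intro t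
  obtain ⟨s, hs'⟩ := hs ((e.inv.app N).app ⊤ t)
  refine ⟨(e.hom.app M).app ⊤ s, ?_⟩
  show ((e.hom.app M) ≫ (Scheme.Modules.pullback j).map φ).app ⊤ s = t
  rw [← e.hom.naturality φ]
  show (e.hom.app N).app ⊤ (φ.app (j ''ᵁ ⊤) s) = t
  rw [hs']
  show ((e.inv.app N) ≫ (e.hom.app N)).app ⊤ t = t
  rw [Iso.inv_hom_id_app]
  rfl

theorem image_top_jV {V : T.Opens} (hV : IsAffineOpen V) : jV n hV ''ᵁ ⊤ = KRR.pr n T ⁻¹ᵁ V := by
  rw [Scheme.Hom.image_top_eq_opensRange, opensRange_jV]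

/-- The counit is onto over affine opens. -/
theorem surjective_counit_app (G : (KRR.PY n T).Modules) (V : T.Opens) :
    Function.Surjective
      (((Scheme.Modules.pullbackPushforwardAdjunction (KRR.pr n T)).counit.app G).app (KRR.pr n T ⁻¹ᵁ V)) := by
  intro t
  refine ⟨InvX.pullElt (KRR.pr n T) (M := (Scheme.Modules.pushforward (KRR.pr n T)).obj G) (U := V) t, ?_⟩
  exact congr(($((Scheme.Modules.pullbackPushforwardAdjunction (KRR.pr n T)).right_triangle_components G)).app V t)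

/-- A map which is an epimorphism over every affine open of the base is one. -/
theorem epi_of_pullback_jV {M G : (KRR.PY n T).Modules} (φ : M ⟶ G)
    (h : ∀ (V : T.Opens) (hV : IsAffineOpen V), Epi ((Scheme.Modules.pullback (jV n hV)).map φ)) : Epi φ := by
  refine Abelian.epi_of_cokernel_π_eq_zero φ (Scheme.Modules.hom_ext _ _ fun U => ?_)
  ext s
  refine QCoh.eq_zero_of_locally U _ fun y hy => ?_
  obtain ⟨_, ⟨V, hV, rfl⟩, hyV, -⟩ :=
    T.isBasis_affineOpens.exists_subset_of_mem_open (Set.mem_univ (KRR.pr n T y)) isOpen_univ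
  haveI := h V hV
  let e := Scheme.Modules.restrictFunctorIsoPullback (jV n hV)
  have h0 : (Scheme.Modules.restrictFunctor (jV n hV)).map (cokernel.π φ) = 0 := by
    have h1 : (Scheme.Modules.pullback (jV n hV)).map (cokernel.π φ) = 0 := by
      haveI : (Scheme.Modules.pullback (jV n hV)).Additive :=
        (Scheme.Modules.pullbackPushforwardAdjunction (jV n hV)).left_adjoint_additive
      rw [← cancel_epi ((Scheme.Modules.pullback (jV n hV)).map φ), ← Functor.map_comp, cokernel.condition,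
        Functor.map_zero, comp_zero]
    rw [← cancel_mono (e.hom.app _), e.hom.naturality, h1, comp_zero, zero_comp]
  refine ⟨U ⊓ KRR.pr n T ⁻¹ᵁ V, homOfLE inf_le_left, ⟨hy, hyV⟩, ?_⟩
  refine (ConcreteCategory.congr_hom ((cokernel.π φ).mapPresheaf.naturality
    (homOfLE (inf_le_left : U ⊓ KRR.pr n T ⁻¹ᵁ V ≤ U)).op) s).symm.trans ?_
  have himg : U ⊓ KRR.pr n T ⁻¹ᵁ V = jV n hV ''ᵁ (jV n hV ⁻¹ᵁ U) := by
    rw [Scheme.Hom.image_preimage_eq_opensRange_inf, opensRange_jV, inf_comm]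
  have key : ∀ z : Γ(G, jV n hV ''ᵁ (jV n hV ⁻¹ᵁ U)), (cokernel.π φ).app _ z = 0 := fun z =>
    congr(($h0).app (jV n hV ⁻¹ᵁ U) z)
  show (cokernel.π φ).app (U ⊓ KRR.pr n T ⁻¹ᵁ V) _ = 0
  generalize G.presheaf.map (homOfLE (inf_le_left : U ⊓ KRR.pr n T ⁻¹ᵁ V ≤ U)).op s = z
  revert z
  rw [himg]
  exact key

/-- The counit at a regular module is an epimorphism. -/
theorem epi_counit {G : (KRR.PY n T).Modules} (hG : Coh.IsQCoh G) (hR : KRR.IsRegSheaf n T G) :
    Epi ((Scheme.Modules.pullbackPushforwardAdjunction (KRR.pr n T)).counit.app G) :=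
  epi_of_pullback_jV _ fun V hV => epi_of_app_top_surjective (isQCoh_pullback_jV hV hG)
    ((isRegSheaf_iff n hG).1 hR V hV) _
    (surjective_pullback_map_app_top (jV n hV) _ (image_top_jV hV) (surjective_counit_app G V))

end Relative

end Groth.Agent.KRRLib.CM
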