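import Groth.Agent.KRRLib.CM.RegK

/-!
# The push-forward `p_K` along `ℙⁿ_Y ⟶ Y`
-/

set_option autoImplicit false
set_option linter.style.haveILetI false
set_option linter.unusedSectionVars false
set_option backward.isDefEq.respectTransparency false
set_option backward.isDefEq.respectTransparency.types false
set_option maxHeartbeats 1000000

universe w v u

open CategoryTheory CategoryTheory.Limits AlgebraicGeometry TopologicalSpace Opposite
open scoped ZeroObject

noncomputable section

namespace Groth.Agent.KRRLib.CM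

open Groth.Agent

variable {n : ℕ}

theorem surjective_app_of_pullback_map {X Y : Scheme.{u}} (j : X ⟶ Y) [IsOpenImmersion j] {M N : Y.Modules}
    (φ : M ⟶ N) {W : Y.Opens} (hW : j ''ᵁ ⊤ = W)
    (hs : Function.Surjective (((Scheme.Modules.pullback j).map φ).app ⊤)) : Function.Surjective (φ.app W) := by
  subst hW
  let e := Scheme.Modules.restrictFunctorIsoPullback j
  intro t
  obtain ⟨s, hs'⟩ := hs ((e.hom.app N).app ⊤ t)
  refine ⟨(e.inv.app M).app ⊤ s, ?_⟩
  show ((e.inv.app M) ≫ (Scheme.Modules.restrictFunctor j).map φ).app ⊤ s = t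
  rw [← e.inv.naturality φ]
  show (e.inv.app N).app ⊤ (((Scheme.Modules.pullback j).map φ).app ⊤ s) = t
  rw [hs']
  show ((e.hom.app N) ≫ (e.inv.app N)).app ⊤ t = t
  rw [Iso.hom_inv_id_app]
  rfl

/-- A map surjective on affine opens is an epimorphism. -/
theorem epi_of_affine_surjective {X : Scheme.{u}} {M N : X.Modules} (φ : M ⟶ N)
    (h : ∀ V : X.Opens, IsAffineOpen V → Function.Surjective (φ.app V)) : Epi φ := by
  refine Abelian.epi_of_cokernel_π_eq_zero φ (Scheme.Modules.hom_ext _ _ fun U => ?_)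
  ext s
  refine QCoh.eq_zero_of_locally U _ fun x hx => ?_
  obtain ⟨_, ⟨V, hV, rfl⟩, hxV, hVU⟩ := X.isBasis_affineOpens.exists_subset_of_mem_open hx U.2
  refine ⟨V, homOfLE hVU, hxV, ?_⟩
  obtain ⟨a, ha⟩ := h V hV (N.presheaf.map (homOfLE hVU).op s)
  refine (ConcreteCategory.congr_hom ((cokernel.π φ).mapPresheaf.naturality (homOfLE hVU).op) s).symm.trans ?_
  refine (congrArg ((cokernel.π φ).app V) ha.symm).trans ?_
  show (φ ≫ cokernel.π φ).app V a = 0
  rw [cokernel.condition]
  rfl

variable {T : Scheme.{u}}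

/-- Direct images of short exact sequences starting with a regular module are exact. -/
theorem shortExact_push_of_regular {S : ShortComplex (KRR.PY n T).Modules} (hS : S.ShortExact)
    (h₁ : Coh.IsQCoh S.X₁) (hR : KRR.IsRegSheaf n T S.X₁) :
    (S.map (Scheme.Modules.pushforward (KRR.pr n T))).ShortExact := by
  haveI := QCoh.preservesFiniteLimits_push (KRR.pr n T)
  haveI : Epi ((Scheme.Modules.pushforward (KRR.pr n T)).map S.g) := epi_of_affine_surjective _ fun V hV => by
    have h := subsingleton_HH_of_reg0 ((isRegSheaf_iff n h₁).1 hR V hV) 1 le_rfl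
    exact surjective_app_of_pullback_map (jV n hV) S.g (image_top_jV hV)
      (QCoh.app_top_surjective_of_HH_one (shortExact_pullback_jV hV hS) h)
  have h := (ShortComplex.Exact.map_of_mono_of_preservesKernel hS.exact (Scheme.Modules.pushforward (KRR.pr n T))
    hS.mono_f inferInstance)
  haveI : Mono (S.map (Scheme.Modules.pushforward (KRR.pr n T))).f :=
    haveI := hS.mono_f
    inferInstanceAs (Mono ((Scheme.Modules.pushforward (KRR.pr n T)).map S.f))
  exact { exact := h, mono_f := inferInstance, epi_g := ‹_› }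

variable [IsLocallyNoetherian T] [CompactSpace T]

/-- Classes of direct images are additive on regular bundles. -/
theorem cl_push_ses {S : ShortComplex (KRR.PY n T).Modules} (hS : S.ShortExact) (h₁ : regP n T S.X₁)
    (h₂ : regP n T S.X₂) (h₃ : regP n T S.X₃) :
    KRR.cl T ((Scheme.Modules.pushforward (KRR.pr n T)).obj S.X₂) =
      KRR.cl T ((Scheme.Modules.pushforward (KRR.pr n T)).obj S.X₁) +
        KRR.cl T ((Scheme.Modules.pushforward (KRR.pr n T)).obj S.X₃) :=
  cl_ses (shortExact_push_of_regular hS (QCoh.isQCoh_of_isFinLocFree h₁.1) h₁.2) (isFinLocFree_push h₁.1 h₁.2)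
    (isFinLocFree_push h₂.1 h₂.2) (isFinLocFree_push h₃.1 h₃.2)

variable {KP : Type v} [CommRing KP] [LambdaRing.LambdaOps KP] {PP : LambdaRing.PosStructure KP}
  {φP : SGA6.Kvb (KRR.PY n T) →+ KP}

/-- Additive maps out of a model are determined by regular bundles. -/
theorem model_reg_hom_ext (hKP : KRR.IsModel (KRR.PY n T) KP PP φP) {H : Type w} [AddCommGroup H]
    {f g : KP →+ H} (h : ∀ G, FlatMod.IsFinLocFree G → KRR.IsRegSheaf n T G →
      f (φP (KRR.cl _ G)) = g (φP (KRR.cl _ G))) : f = g := by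
  have e : f.comp φP = g.comp φP := kvb_hom_ext (n := n) (T := T) fun G hG => h G hG.1 hG.2
  refine AddMonoidHom.ext fun x => ?_
  obtain ⟨y, rfl⟩ := hKP.bijective.2 x
  exact DFunLike.congr_fun e y

/-- The push-forward `p_K` exists and is unique. -/
theorem existsUnique_pushPr (hKP : KRR.IsModel (KRR.PY n T) KP PP φP) {KY : Type v} [CommRing KY]
    (φY : SGA6.Kvb T →+ KY) : ∃! g : KP →+ KY, KRR.IsPushPr n T φP φY g := by
  obtain ⟨f, hf⟩ := exists_kvb_lift (n := n) (T := T)
    (fun G => φY (KRR.cl T ((Scheme.Modules.pushforward (KRR.pr n T)).obj G)))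
    fun S hS h₁ h₂ h₃ => by rw [cl_push_ses hS h₁ h₂ h₃, map_add]
  let e := AddEquiv.ofBijective φP hKP.bijective
  have hg : KRR.IsPushPr n T φP φY (f.comp e.symm.toAddMonoidHom) := fun G hG hR => by
    show f (e.symm (e (KRR.cl _ G))) = _
    rw [e.symm_apply_apply]
    exact hf G ⟨hG, hR⟩
  exact ⟨_, hg, fun g hg' => model_reg_hom_ext hKP fun G hG hR => (hg' G hG hR).trans (hg G hG hR).symm⟩

end Groth.Agent.KRRLib.CM
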