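import Groth.Agent.QCoh.RpushModel
import Groth.Agent.QCoh.RpushAbGod
import Groth.Agent.KFlatLib.Scheme.AffineConservative
import Groth.Agent.KFlatLib.Scheme.Exact

/-!
# Vanishing of higher direct images, on affine opens of the base
-/

set_option autoImplicit false
set_option linter.style.haveILetI false
set_option backward.isDefEq.respectTransparency false
set_option backward.isDefEq.respectTransparency.types false

universe u

open CategoryTheory CategoryTheory.Limits AlgebraicGeometry TopologicalSpace Opposite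

noncomputable section

namespace Groth.Agent.KRRLib.CM

open Groth.Agent Groth.Agent.QCoh

variable {X S : Scheme.{u}} (f : X ⟶ S) [QuasiCompact f] [QuasiSeparated f] {M : X.Modules}

theorem nonempty_model_equiv (hM : Coh.IsQCoh M) (q : ℕ) {V : S.Opens} (hV : IsAffineOpen V) :
    Nonempty (Γ(rpushModel f M q, V) ≃ Coh.HH _ (M.restrict (f ⁻¹ᵁ V).ι) (q + 1)) := by
  letI := modHH (rhoV f V) (M.restrict (f ⁻¹ᵁ V).ι) (q + 1)
  obtain ⟨θ, hθ, hker⟩ := exists_theta_model f M V (q + 1)
  let α := (Scheme.Modules.pushforward f).map (godπ M q)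
  have hq := locRange_rpushModel f hM q
  obtain ⟨l⟩ := nonempty_linearEquiv_of_surjective (appLin (cokernel.π α) V) θ (hq.surjective hV) hθ fun z => by
    refine Iff.trans ?_ (hker z).symm
    constructor
    · intro hz
      obtain ⟨a, ha⟩ := hq.mem_range hV z hz
      exact ⟨a, ha⟩
    · rintro ⟨b, rfl⟩
      exact cokernel_π_app_app (α := α) (U := V) b
  exact ⟨l.toEquiv⟩

/-- Higher direct images vanish iff the cohomology over affine opens does. -/
theorem isZero_RpushAb_iff (hM : Coh.IsQCoh M) (q : ℕ) :
    IsZero ((Coh.RpushAb f (q + 1)).obj (Coh.toAb M)) ↔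
      ∀ V : S.Opens, IsAffineOpen V → Subsingleton (Coh.HH _ (M.restrict (f ⁻¹ᵁ V).ι) (q + 1)) := by
  obtain ⟨e⟩ := nonempty_RpushAb_iso f M q
  haveI : (toAbFunctor S).Faithful := inferInstanceAs (KFlatLib.toAb S).Faithful
  constructor
  · intro h V hV
    obtain ⟨l⟩ := nonempty_model_equiv f hM q hV
    have h0 : IsZero ((toAbFunctor S).obj (rpushModel f M q)) := h.of_iso e.symm
    have hz : IsZero (rpushModel f M q) :=
      (IsZero.iff_id_eq_zero _).2 ((toAbFunctor S).map_injective (h0.eq_of_src _ _))
    have : Subsingleton Γ(rpushModel f M q, V) :=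
      subsingleton_of_forall_eq 0 fun x =>
        congrArg (fun φ : rpushModel f M q ⟶ rpushModel f M q => φ.app V x) (hz.eq_of_src (𝟙 _) 0)
    exact l.symm.subsingleton
  · intro h
    haveI : (toAbFunctor S).Additive := inferInstance
    refine ((toAbFunctor S).map_isZero ?_).of_iso e
    refine KFlatLib.isZero_of_sections (locRange_rpushModel f hM q).isQCoh fun s => ?_
    obtain ⟨_, ⟨V, hV, rfl⟩, hsV, -⟩ := S.isBasis_affineOpens.exists_subset_of_mem_open (Set.mem_univ s) isOpen_univ
    obtain ⟨l⟩ := nonempty_model_equiv f hM q hV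
    haveI := h V hV
    exact ⟨V, hsV, hV, l.subsingleton⟩

end Groth.Agent.KRRLib.CM
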