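import Groth.Agent.KRRLib.CM.RegKernel
import Groth.Agent.KRRLib.CM.PullSurj
import Groth.Agent.PnCoh.Global

/-!
# Global sections of modules pulled back to projective space
-/

set_option autoImplicit false
set_option linter.style.haveILetI false
set_option linter.unusedSectionVars false
set_option backward.isDefEq.respectTransparency false
set_option backward.isDefEq.respectTransparency.types false
set_option maxHeartbeats 1000000

universe u

open CategoryTheory CategoryTheory.Limits AlgebraicGeometry TopologicalSpace Opposite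

noncomputable section

namespace Groth.Agent.KRRLib.CM

open Groth.Agent Groth.Agent.PnCoh

/-- Global sections of a coproduct come from the summands. -/
theorem mem_of_forall_ι {X : Scheme.{u}} [CompactSpace X] {J : Type u} {M : J → X.Modules}
    (S : AddSubgroup Γ(∐ M, ⊤)) (h : ∀ j (t : Γ(M j, ⊤)), (Sigma.ι M j).app ⊤ t ∈ S)
    (s : Γ(∐ M, ⊤)) : s ∈ S := by
  classical
  obtain ⟨G, hG⟩ := KFlatLib.exists_fix_section M (W := ⊤) isCompact_univ s
  let π : ∀ j, ∐ M ⟶ M j := fun j => Sigma.desc fun i => if e : i = j then eqToHom (by rw [e]) else 0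
  have hsum : KFlatLib.finProj M G ≫ KFlatLib.finIncl M G = ∑ j ∈ G, π j ≫ Sigma.ι M j := by
    refine Sigma.hom_ext _ _ fun i => ?_
    rw [Preadditive.comp_sum]
    simp only [π, Sigma.ι_desc_assoc]
    by_cases hi : i ∈ G
    · rw [KFlatLib.ι_finProj_finIncl M G i hi, Finset.sum_eq_single_of_mem i hi fun j _ hj => by
        rw [dif_neg fun e => hj e.symm, zero_comp]]
      simp
    · rw [Finset.sum_eq_zero fun j hj => by
        rw [dif_neg (show ¬ i = j from fun e => hi (by rw [e]; exact hj)), zero_comp]]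
      simp [KFlatLib.finProj, hi]
  have hs := (congrArg (fun φ : ∐ M ⟶ ∐ M => φ.app ⊤ s) hsum.symm).trans (hG G subset_rfl)
  rw [← hs]
  show appAt (N := ∐ M) ⊤ s (∑ j ∈ G, π j ≫ Sigma.ι M j) ∈ S
  rw [map_sum]
  exact sum_mem fun j _ => h j ((π j).app ⊤ s)

/-- The pullback map on sections, additively. -/
def pullHom {X Y : Scheme.{u}} (f : X ⟶ Y) (N : Y.Modules) (U : Y.Opens) :
    Γ(N, U) →+ Γ((Scheme.Modules.pullback f).obj N, f ⁻¹ᵁ U) :=
  (((Scheme.Modules.pullbackPushforwardAdjunction f).unit.app N).app U).hom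

theorem pullElt_map {X Y : Scheme.{u}} (f : X ⟶ Y) {M N : Y.Modules} (φ : M ⟶ N) (U : Y.Opens) (s : Γ(M, U)) :
    InvX.pullElt f (φ.app U s) = ((Scheme.Modules.pullback f).map φ).app (f ⁻¹ᵁ U) (InvX.pullElt f s) :=
  congr(($((Scheme.Modules.pullbackPushforwardAdjunction f).unit.naturality φ)).app U s)

theorem pullElt_smul {X Y : Scheme.{u}} (f : X ⟶ Y) {M : Y.Modules} (U : Y.Opens) (a : Γ(Y, U)) (s : Γ(M, U)) :
    InvX.pullElt f (a • s) = f.app U a • InvX.pullElt f s :=
  ((Scheme.Modules.pullbackPushforwardAdjunction f).unit.app M).app_smul a s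

theorem surjective_appTop_toP (n : ℕ) (A : Type u) [CommRing A] :
    Function.Surjective ((toP n A).appTop) := fun s =>
  (bijective_toSpecR_appTop (ι := Fin (n + 1)) (R := A)).2 s

theorem pullSurj_structure (n : ℕ) (A : Type u) [CommRing A] :
    PullSurj (toP n A) (Coh.structureModule (Spec (CommRingCat.of A))) ⊤ := by
  intro t
  let one : Γ(Coh.structureModule (Spec (CommRingCat.of A)), ⊤) := (1 : Γ(Spec (CommRingCat.of A), ⊤))
  have hf := InvX.isFrame_pullElt (toP n A) (InvX.isFrame_one (X := Spec (CommRingCat.of A)) ⊤)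
  obtain ⟨r, hr⟩ := (hf _ le_rfl).2 t
  obtain ⟨a, rfl⟩ := surjective_appTop_toP n A r
  refine ⟨a • one, (pullElt_smul (toP n A) ⊤ a one).trans ?_⟩
  refine Eq.trans ?_ hr
  show _ = _ • AModX.res _ (le_refl _) _
  rw [AModX.res_self]
  rfl

theorem pullSurj_free (n : ℕ) (A : Type u) [CommRing A] (ι : Type u) :
    PullSurj (toP n A) (∐ fun _ : ι => Coh.structureModule (Spec (CommRingCat.of A))) ⊤ := by
  intro t
  let M : ι → (Spec (CommRingCat.of A)).Modules := fun _ => Coh.structureModule (Spec (CommRingCat.of A))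
  let H := Scheme.Modules.pullback (toP n A)
  haveI : PreservesColimitsOfShape (Discrete ι) H :=
    (Scheme.Modules.pullbackPushforwardAdjunction (toP n A)).leftAdjoint_preservesColimits.preservesColimitsOfShape
  let e := PreservesCoproduct.iso H M
  let S : AddSubgroup Γ(∐ fun j => H.obj (M j), ⊤) :=
    ((pullHom (toP n A) (∐ M) ⊤).range).map (e.hom.app ⊤).hom
  have hmem : e.hom.app ⊤ t ∈ S := mem_of_forall_ι S (fun j u => by
    obtain ⟨s, rfl⟩ := pullSurj_structure n A u
    refine ⟨_, ⟨(Sigma.ι M j).app ⊤ s, rfl⟩, ?_⟩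
    show e.hom.app ⊤ (InvX.pullElt (toP n A) ((Sigma.ι M j).app ⊤ s)) = _
    rw [pullElt_map]
    show (H.map (Sigma.ι M j) ≫ e.hom).app ⊤ (InvX.pullElt (toP n A) s) = _
    rw [show H.map (Sigma.ι M j) ≫ e.hom = Sigma.ι (fun j => H.obj (M j)) j by
      rw [← cancel_mono e.inv, Category.assoc, e.hom_inv_id, Category.comp_id, PreservesCoproduct.inv_hom,
        ι_comp_sigmaComparison]]) _
  obtain ⟨_, ⟨s, rfl⟩, hs⟩ := hmem
  exact ⟨s, (ConcreteCategory.bijective_of_isIso (e.hom.app ⊤)).1 hs⟩

/-- All global sections of a pulled back module come from the base. -/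
theorem pullSurj_toP (n : ℕ) (A : Type u) [CommRing A] {N : (Spec (CommRingCat.of A)).Modules}
    (hN : Coh.IsQCoh N) : PullSurj (toP n A) N ⊤ := by
  intro t
  obtain ⟨ι, p, hp⟩ := exists_free_epi hN
  have hS : (ShortComplex.mk (kernel.ι p) p (kernel.condition p)).ShortExact :=
    { exact := ShortComplex.exact_kernel p }
  have hF : Coh.IsQCoh (∐ fun _ : ι => Coh.structureModule (Spec (CommRingCat.of A))) :=
    QCoh.isQCoh_colimit _ fun _ => ProjUPX.isQCoh_of_isInvertible InvX.isInvertible_structureModule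
  have hK : Subsingleton (Coh.HH (Proj (CohB1.polyGrading n A))
      ((Scheme.Modules.pullback (toP n A)).obj (kernel p)) 1) := by
    obtain ⟨e⟩ := tw_zero_iso (n := n) (A := A) ((Scheme.Modules.pullback (toP n A)).obj (kernel p))
    exact QCoh.subsingleton_HH_of_iso e 1
      (subsingleton_HH_tw_pullback n A 0 (by omega) 1 le_rfl (QCoh.isQCoh_kernel hF hN p))
  have hsurj := QCoh.app_top_surjective_of_HH_one (shortExact_pullback_flat (toP n A) hS) hK
  obtain ⟨t', rfl⟩ := hsurj t
  obtain ⟨s, rfl⟩ := pullSurj_free n A ι t'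
  exact ⟨p.app ⊤ s, pullElt_map (toP n A) p ⊤ s⟩

variable {n : ℕ} {T : Scheme.{u}}

/-- Sections over the preimage of an affine open of a pulled back module come from the base. -/
theorem pullSurj_pr {N : T.Modules} (hN : Coh.IsQCoh N) {V : T.Opens} (hV : IsAffineOpen V) :
    PullSurj (KRR.pr n T) N V := by
  have h1 : PullSurj hV.fromSpec N V :=
    (bijective_pullElt_of_le hV.fromSpec N (by rw [hV.opensRange_fromSpec])).2
  have h2 : PullSurj (toP n Γ(T, V)) ((Scheme.Modules.pullback hV.fromSpec).obj N) (hV.fromSpec ⁻¹ᵁ V) := by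
    rw [hV.fromSpec_preimage_self]
    exact pullSurj_toP n Γ(T, V) (QCoh.isQCoh_pullback hV.fromSpec hN)
  have h3 : PullSurj (jV n hV ≫ KRR.pr n T) N V :=
    (pullSurj_congr (show jV n hV ≫ KRR.pr n T = toP n Γ(T, V) ≫ hV.fromSpec from jV_pr n hV)).2 (h1.comp h2)
  exact h3.of_comp (bijective_pullElt_of_le (jV n hV) _ (opensRange_jV n hV).ge).1

/-- The counit is injective on sections over preimages of affine opens. -/
theorem injective_counit_app {G : (KRR.PY n T).Modules} (hG : Coh.IsQCoh G) {V : T.Opens} (hV : IsAffineOpen V) :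
    Function.Injective
      (((Scheme.Modules.pullbackPushforwardAdjunction (KRR.pr n T)).counit.app G).app (KRR.pr n T ⁻¹ᵁ V)) := by
  intro x y hxy
  obtain ⟨a, rfl⟩ := pullSurj_pr (n := n) (QCoh.isQCoh_pushforward (KRR.pr n T) hG) hV x
  obtain ⟨b, rfl⟩ := pullSurj_pr (n := n) (QCoh.isQCoh_pushforward (KRR.pr n T) hG) hV y
  have key : ∀ s : Γ((Scheme.Modules.pushforward (KRR.pr n T)).obj G, V),
      ((Scheme.Modules.pullbackPushforwardAdjunction (KRR.pr n T)).counit.app G).app (KRR.pr n T ⁻¹ᵁ V)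
        (InvX.pullElt (KRR.pr n T) s) = s := fun s =>
    congr(($((Scheme.Modules.pullbackPushforwardAdjunction (KRR.pr n T)).right_triangle_components G)).app V s)
  rw [key, key] at hxy
  rw [hxy]

/-- The kernel of the counit has no sections over preimages of affine opens. -/
theorem subsingleton_HH_zero_kernel_counit {G : (KRR.PY n T).Modules} (hG : Coh.IsQCoh G) {V : T.Opens}
    (hV : IsAffineOpen V) :
    Subsingleton Γ((Scheme.Modules.pullback (jV n hV)).obj
      (kernel ((Scheme.Modules.pullbackPushforwardAdjunction (KRR.pr n T)).counit.app G)), ⊤) := by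
  let ε := (Scheme.Modules.pullbackPushforwardAdjunction (KRR.pr n T)).counit.app G
  let e := Scheme.Modules.restrictFunctorIsoPullback (jV n hV)
  have h0 : ∀ z : Γ(kernel ε, jV n hV ''ᵁ ⊤), z = 0 := by
    rw [image_top_jV hV]
    intro z
    refine QCoh.app_injective (kernel.ι ε) _ ?_
    refine (injective_counit_app hG hV ?_).trans (map_zero _).symm
    refine Eq.trans ?_ (map_zero _).symm
    show (kernel.ι ε ≫ ε).app _ z = 0
    rw [kernel.condition]
    rfl
  refine subsingleton_of_forall_eq 0 fun x => ?_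
  have h1 : (e.inv.app _).app ⊤ x = 0 := h0 _
  exact (ConcreteCategory.bijective_of_isIso ((e.inv.app _).app ⊤)).1 (h1.trans (map_zero _).symm)

end Groth.Agent.KRRLib.CM
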